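import Cfsg.Agent.Lib.GW.Conseq.Basic
import Cfsg.Agent.Lib.GW.Model.Shape
import Cfsg.Agent.S0205
import Cfsg.Agent.S2202

/-!
D-groups as centralisers of involutions: common lemmas.

* `DHyp`, `DDih`, `DHyp.cases`: a D-group has exponent two, or an abelian subgroup of index two inverted by the rest.
* `exists_sign`: the sign on the cosets of a subgroup of index twice an odd number.
* `almost_simple`: the perfect part of a non-solvable group with dihedral Sylow 2-subgroups and trivial core.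
-/

set_option autoImplicit false
set_option linter.unusedSectionVars false

namespace CfsgLib.DGroup

open Cfsg CfsgLib.GW

universe u

variable {G : Type u} [Group G]

/-- The hypotheses on a D-group `H` with witness `A`. -/
structure DHyp (H A : Subgroup G) : Prop where
  lt : A < H
  sq : ∀ x ∈ H, x ∉ A → x * x = 1
  four : 4 ∣ Nat.card H
  cent : ∀ j ∈ H, orderOf j = 2 → (∀ h ∈ H, h * j = j * h) → Subgroup.centralizer ({j} : Set G) = H

/-- The witness has index two and is inverted by the elements outside it. -/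
structure DDih (H A : Subgroup G) : Prop extends DHyp H A where
  idx : ∀ x ∈ H, x ∉ A → ∀ y ∈ H, y ∉ A → x * y ∈ A
  inv : ∀ x ∈ H, x ∉ A → ∀ a ∈ A, x * a * x⁻¹ = a⁻¹
  not_exp : ∃ a ∈ A, a * a ≠ 1

variable {H A : Subgroup G}

theorem inv_eq_self {g : G} (h : g * g = 1) : g⁻¹ = g := inv_eq_of_mul_eq_one_left h

theorem DHyp.cases (h : DHyp H A) : (∀ x ∈ H, x * x = 1) ∨ DDih H A := by
  by_cases hE : ∀ x ∈ H, x * x = 1
  · exact Or.inl hE
  push Not at hE
  obtain ⟨a₀, ha₀, ha₀'⟩ := hE
  have hex : ∃ a ∈ A, a * a ≠ 1 := ⟨a₀, by_contra fun hA => ha₀' (h.sq a₀ ha₀ hA), ha₀'⟩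
  have hinv : ∀ x ∈ H, x ∉ A → ∀ a ∈ A, x * a * x⁻¹ = a⁻¹ := fun x hx hxA a ha => by
    have h1 := h.sq (x * a) (mul_mem hx (h.lt.le ha)) fun e => hxA ((mul_mem_cancel_right ha).mp e)
    rw [inv_eq_self (h.sq x hx hxA)]
    exact eq_inv_of_mul_eq_one_left (by rw [mul_assoc]; exact h1)
  refine Or.inr ⟨h, fun x hx hxA y hy hyA => by_contra fun hxy => ?_, hinv, hex⟩
  obtain ⟨a, ha, ha'⟩ := hex
  have h1 := hinv (x * y) (mul_mem hx hy) hxy a ha
  rw [mul_inv_rev, show x * y * a * (y⁻¹ * x⁻¹) = x * (y * a * y⁻¹) * x⁻¹ by group, hinv y hy hyA a ha,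
    hinv x hx hxA a⁻¹ (inv_mem ha), inv_inv] at h1
  exact ha' (by nth_rw 2 [h1]; rw [mul_inv_cancel])

namespace DDih

variable (d : DDih H A)
include d

theorem exists_out : ∃ x ∈ H, x ∉ A := SetLike.exists_of_lt d.lt

theorem comm {a b : G} (ha : a ∈ A) (hb : b ∈ A) : a * b = b * a := by
  obtain ⟨x, hx, hxA⟩ := d.exists_out
  have h1 := d.inv x hx hxA (a * b) (mul_mem ha hb)
  rw [show x * (a * b) * x⁻¹ = (x * a * x⁻¹) * (x * b * x⁻¹) by group, d.inv x hx hxA a ha, d.inv x hx hxA b hb] at h1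
  have h2 := congrArg (·⁻¹) h1
  simp only [mul_inv_rev, inv_inv] at h2
  exact h2.symm

/-- An involution of `A` is central in `H`. -/
theorem commutes_invol {z : G} (hz : z ∈ A) (hz2 : z * z = 1) : ∀ h ∈ H, h * z = z * h := fun h hh => by
  by_cases hA : h ∈ A
  · exact d.comm hA hz
  · exact mul_inv_eq_iff_eq_mul.mp ((d.inv h hh hA z hz).trans (inv_eq_self hz2))

theorem cent_invol {z : G} (hz : z ∈ A) (hz2 : z * z = 1) (hz1 : z ≠ 1) :
    Subgroup.centralizer ({z} : Set G) = H :=
  d.cent z (d.lt.le hz) (orderOf_eq_prime (by rwa [sq]) hz1) (d.commutes_invol hz hz2)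

theorem mem_of_central {y : G} (hy : y ∈ H) (hc : ∀ h ∈ H, h * y = y * h) : y ∈ A := by
  by_contra hA
  obtain ⟨a, ha, ha'⟩ := d.not_exp
  have h1 := d.inv y hy hA a ha
  rw [← hc a (d.lt.le ha), mul_inv_cancel_right] at h1
  exact ha' (by nth_rw 2 [h1]; rw [mul_inv_cancel])

theorem exists_invol [Finite G] : ∃ z ∈ A, z * z = 1 ∧ z ≠ 1 := by
  haveI : Fact (Nat.Prime 2) := ⟨Nat.prime_two⟩
  obtain ⟨x, hx, hxA⟩ := d.exists_out
  have h2 : (A.subgroupOf H).index = 2 := by
    refine Subgroup.index_eq_two_iff.mpr ⟨⟨x, hx⟩, fun b => ?_⟩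
    simp only [Subgroup.mem_subgroupOf, Subgroup.coe_mul]
    by_cases hb : (b : G) ∈ A
    · exact Or.inr ⟨hb, fun e => hxA ((mul_mem_cancel_left hb).mp e)⟩
    · exact Or.inl ⟨d.idx b b.2 hb x hx hxA, hb⟩
  have hc : Nat.card A * 2 = Nat.card H := by
    rw [← (A.subgroupOf H).card_mul_index, h2, Nat.card_congr (Subgroup.subgroupOfEquivOfLe d.lt.le).toEquiv]
  obtain ⟨k, hk⟩ := d.four
  obtain ⟨z, hz⟩ := exists_prime_orderOf_dvd_card' (G := A) 2 ⟨k, by omega⟩
  refine ⟨z, z.2, ?_, fun e => ?_⟩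
  · have := congrArg Subtype.val (pow_orderOf_eq_one z)
    rwa [hz, sq] at this
  · rw [← Subgroup.orderOf_coe, e, orderOf_one] at hz
    norm_num at hz

end DDih

variable [Finite G]

/-- A finite group with a normal solvable subgroup and solvable quotient is solvable. -/
theorem solvable_ext (N : Subgroup G) [N.Normal] (h1 : Group.IsSolvable N) (h2 : Group.IsSolvable (G ⧸ N)) :
    Group.IsSolvable G := by
  haveI := h1
  haveI := h2
  exact Group.isSolvable_of_ker_le_range N.subtype (QuotientGroup.mk' N) (by simp)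

/-- A finite group with a normal Sylow 2-subgroup is solvable. -/
theorem solvable_of_normal_sylow (P : Sylow 2 G) (h : (P : Subgroup G).Normal) : Group.IsSolvable G := by
  haveI : Fact (Nat.Prime 2) := ⟨Nat.prime_two⟩
  haveI := h
  haveI : Group.IsNilpotent (P : Subgroup G) := P.2.isNilpotent
  refine solvable_ext (P : Subgroup G) inferInstance (Cfsg.Agent.S0205.result ?_)
  rw [← Subgroup.index_eq_card, ← Nat.not_even_iff_odd, even_iff_two_dvd]
  exact P.not_dvd_index

/-- The quotient by the odd core of a non-solvable group is not solvable. -/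
theorem not_solvable_quotient (hns : ¬ Group.IsSolvable G) : ¬ Group.IsSolvable (G ⧸ oddCore G) :=
  fun h => hns (solvable_ext _ (Cfsg.Agent.S0205.result CfsgLib.odd_card_oddCore) h)

/-- The sign on the cosets of `M` is `-1` at every involution without a conjugate in `M`. -/
theorem exists_sign (M : Subgroup G) {m : ℕ} (hm : M.index = 2 * m) (hodd : Odd m) :
    ∃ f : G →* ℤˣ, ∀ t : G, t * t = 1 → (∀ g : G, g⁻¹ * t * g ∉ M) → f t = -1 := by
  classical
  letI : Fintype (G ⧸ M) := Fintype.ofFinite _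
  refine ⟨Equiv.Perm.sign.comp (MulAction.toPermHom G (G ⧸ M)), fun t ht hM => ?_⟩
  have hsq : (MulAction.toPermHom G (G ⧸ M) t) ^ 2 = 1 := by rw [← map_pow, sq, ht, map_one]
  have hfix : Fintype.card (Function.fixedPoints (MulAction.toPermHom G (G ⧸ M) t)) = 0 := by
    rw [Fintype.card_eq_zero_iff]
    refine ⟨fun ⟨q, hq⟩ => ?_⟩
    induction q using QuotientGroup.induction_on with
    | H g =>
      have h1 : ((t * g : G) : G ⧸ M) = (g : G ⧸ M) := hq
      have h2 := QuotientGroup.eq.mp h1.symm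
      exact hM g (by rwa [mul_assoc])
  show Equiv.Perm.sign _ = _
  rw [Equiv.Perm.sign_of_pow_two_eq_one hsq, hfix, Nat.sub_zero, ← Nat.card_eq_fintype_card,
    ← Subgroup.index_eq_card, hm, Nat.mul_div_cancel_left _ two_pos, hodd.neg_one_pow]

/-- The kernel of a sign has index two. -/
theorem index_ker_sign {K : Type*} [Group K] (f : K →* ℤˣ) {t : K} (ht : f t = -1) : f.ker.index = 2 := by
  refine Subgroup.index_eq_two_iff.mpr ⟨t, fun b => ?_⟩
  simp only [MonoidHom.mem_ker, map_mul, ht]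
  rcases Int.units_eq_one_or (f b) with e | e <;> simp [e]

variable {Q : Type u} [Group Q] [Finite Q]

/-- The perfect part of a non-solvable group with dihedral Sylow 2-subgroups and trivial core. -/
theorem almost_simple (hGW : CfsgLib.GWConseq.GWThm.{u}) (hd : GWDihedral Q) (hO : oddCore Q = ⊥)
    (hns : ¬ Group.IsSolvable Q) :
    ∃ L : Subgroup Q, L.Normal ∧ Group.IsPerfect L ∧ GWModel L ∧ Subgroup.centralizer (L : Set Q) = ⊥ ∧
      (Nonempty (PSLFrame Q L) ∨ Nonempty (SevenFrame Q L)) := by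
  obtain ⟨k, hk⟩ := exists_perfect_derived Q
  set L := derivedSeries Q k with hL
  haveI := hk
  haveI : L.Normal := derivedSeries_normal _ k
  have hLne : L ≠ ⊥ := fun h => hns (Group.isSolvable_def Q |>.2 ⟨k, h⟩)
  have hOL : oddCore L = ⊥ := by
    rw [← Subgroup.map_eq_bot_iff_of_injective _ L.subtype_injective, eq_bot_iff, ← hO]
    refine CfsgLib.le_oddCore ?_
    rw [Subgroup.card_map_of_injective L.subtype_injective]
    exact CfsgLib.odd_card_oddCore
  have hdL := hd.perfect_sub L hLne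
  have hcore : oddCore L = Subgroup.center L := by
    rw [hOL, eq_comm, eq_bot_iff, ← hOL]
    exact CfsgLib.le_oddCore hdL.center_odd
  have hm := hGW L hdL
  have hodd := hd.centralizer_odd L hLne
  have hm' : GWModel L :=
    GWModel.of_equiv ((QuotientGroup.quotientMulEquivOfEq hOL).trans QuotientGroup.quotientBot).symm hm
  exact ⟨L, inferInstance, hk, hm', by rw [eq_bot_iff, ← hO]; exact CfsgLib.le_oddCore hodd,
    exists_frame hd L hcore hm hodd⟩

end CfsgLib.DGroup
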