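import Cfsg.Agent.Lib.GW.DGroup.Local
import Cfsg.Agent.Lib.GW.Model.Seven

/-!
One central involution, dihedral Sylow 2-subgroups.
-/

set_option autoImplicit false
set_option linter.unusedSectionVars false

namespace CfsgLib.DGroup

open Cfsg CfsgLib.GW CfsgLib.PSL2Max Equiv
open scoped MatrixGroups

universe u

variable {G : Type u} [Group G] [Finite G] {H A : Subgroup G}

/-- Non-involutions centralising an involution of `A₇` need not commute. -/
theorem seven_noncomm {a : alternatingGroup (Fin 7)} (ha2 : a * a = 1) (ha1 : a ≠ 1) :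
    ∃ b c : alternatingGroup (Fin 7), b * a = a * b ∧ c * a = a * c ∧ b * b ≠ 1 ∧ c * c ≠ 1 ∧ b * c ≠ c * b := by
  obtain ⟨π, hπ⟩ := isConj_iff.mp (Model.isConj_standard ha2 ha1)
  set N : Perm (Fin 7) →* MulAut (alternatingGroup (Fin 7)) := MulAut.conjNormal
  let b₀ : alternatingGroup (Fin 7) := ⟨swap 4 5 * swap 5 6, by rw [Perm.mem_alternatingGroup]; decide⟩
  let c₀ : alternatingGroup (Fin 7) :=
    ⟨swap 0 2 * swap 2 1 * swap 1 3 * swap 4 5, by rw [Perm.mem_alternatingGroup]; decide⟩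
  let a₀ : alternatingGroup (Fin 7) := ⟨swap 0 1 * swap 2 3, by rw [Perm.mem_alternatingGroup]; decide⟩
  have ha : N π a₀ = a := Subtype.ext hπ
  have h1 : b₀ * a₀ = a₀ * b₀ := Subtype.ext (by
    show (swap 4 5 * swap 5 6) * (swap 0 1 * swap 2 3) = (swap 0 1 * swap 2 3) * (swap (4 : Fin 7) 5 * swap 5 6)
    decide)
  have h2 : c₀ * a₀ = a₀ * c₀ := Subtype.ext (by
    show (swap 0 2 * swap 2 1 * swap 1 3 * swap 4 5) * (swap 0 1 * swap 2 3) =
      (swap 0 1 * swap 2 3) * (swap (0 : Fin 7) 2 * swap 2 1 * swap 1 3 * swap 4 5)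
    decide)
  have h3 : b₀ * b₀ ≠ 1 := fun e => by
    have e' : (swap 4 5 * swap 5 6) * (swap (4 : Fin 7) 5 * swap 5 6) = 1 := congrArg Subtype.val e
    exact absurd e' (by decide)
  have h4 : c₀ * c₀ ≠ 1 := fun e => by
    have e' : (swap 0 2 * swap 2 1 * swap 1 3 * swap 4 5) * (swap (0 : Fin 7) 2 * swap 2 1 * swap 1 3 * swap 4 5) = 1 :=
      congrArg Subtype.val e
    exact absurd e' (by decide)
  have h5 : b₀ * c₀ ≠ c₀ * b₀ := fun e => by
    have e' : (swap 4 5 * swap 5 6) * (swap (0 : Fin 7) 2 * swap 2 1 * swap 1 3 * swap 4 5) =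
        (swap 0 2 * swap 2 1 * swap 1 3 * swap 4 5) * (swap (4 : Fin 7) 5 * swap 5 6) := congrArg Subtype.val e
    exact absurd e' (by decide)
  refine ⟨N π b₀, N π c₀, ?_, ?_, ?_, ?_, ?_⟩
  · rw [← ha, ← map_mul, ← map_mul, h1]
  · rw [← ha, ← map_mul, ← map_mul, h2]
  · rw [← map_mul]; exact fun e => h3 ((MulEquiv.map_eq_one_iff _).mp e)
  · rw [← map_mul]; exact fun e => h4 ((MulEquiv.map_eq_one_iff _).mp e)
  · rw [← map_mul, ← map_mul]; exact fun e => h5 ((N π).injective e)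

/-- The conclusion when the Sylow 2-subgroups are dihedral. -/
theorem concl_of_dihedral (hGW : CfsgLib.GWConseq.GWThm.{u}) (d : DDih H A) (hd : GWDihedral G)
    (hns : ¬ Group.IsSolvable G) : Concl G := by
  classical
  haveI : Fact (Nat.Prime 2) := ⟨Nat.prime_two⟩
  obtain ⟨z, hzA, hz2, hz1⟩ := d.exists_invol
  set π := QuotientGroup.mk' (oddCore G) with hπdef
  have hker : Odd (Nat.card π.ker) := by
    rw [hπdef, QuotientGroup.ker_mk']; exact CfsgLib.odd_card_oddCore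
  have hCz : ∀ q, q * π z = π z * q → ∃ h ∈ H, π h = q := fun q hq => by
    obtain ⟨g, rfl⟩ := QuotientGroup.mk'_surjective (oddCore G) q
    obtain ⟨w, hw, hgw⟩ := exists_lift_commute π hker hz2 hq
    refine ⟨g * w, ?_, by rw [map_mul, MonoidHom.mem_ker.mp hw, mul_one]⟩
    rw [← d.cent_invol hzA hz2 hz1, Subgroup.mem_centralizer_singleton_iff]
    exact hgw
  have hz1' : π z ≠ 1 := fun e => by
    have h1 : z ∈ oddCore G := (QuotientGroup.eq_one_iff z).mp e
    have h2 : orderOf z = 2 := orderOf_eq_prime (by rw [sq, hz2]) hz1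
    have h3 := orderOf_dvd_natCard (⟨z, h1⟩ : oddCore G)
    rw [Subgroup.orderOf_mk, h2, ← even_iff_two_dvd] at h3
    exact Nat.not_even_iff_odd.mpr CfsgLib.odd_card_oddCore h3
  have hz2' : π z * π z = 1 := by rw [← map_mul, hz2, map_one]
  have hdQ : GWDihedral (G ⧸ oddCore G) := hd.quotient _ CfsgLib.odd_card_oddCore
  obtain ⟨L, hLn, hLp, -, hC, hfr⟩ := almost_simple hGW hdQ (CfsgLib.pPrimeCore_quotient_eq_bot 2)
    (not_solvable_quotient hns)
  haveI := hLn
  refine ⟨oddCore G, inferInstance, Or.inl CfsgLib.odd_card_oddCore, ?_⟩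
  rcases hfr with ⟨⟨fr⟩⟩ | ⟨⟨fr⟩⟩
  swap
  · exfalso
    have hinj : Function.Injective fr.π := (MonoidHom.ker_eq_bot_iff _).mp (fr.ker_eq.trans hC)
    have hsurj : Function.Surjective fr.π := fun s => by
      obtain ⟨l, -, hl⟩ : s ∈ L.map fr.π := fr.map_L.symm ▸ Subgroup.mem_top s
      exact ⟨l, hl⟩
    obtain ⟨b, c, hb, hc, hbb, hcc, hbc⟩ := seven_noncomm (a := fr.π (π z))
      (by rw [← map_mul, hz2', map_one]) (fun e => hz1' (hinj (e.trans (map_one _).symm)))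
    have hget : ∀ s, s * fr.π (π z) = fr.π (π z) * s → s * s ≠ 1 → ∃ a ∈ A, fr.π (π a) = s := by
      intro s hs hss
      obtain ⟨q, rfl⟩ := hsurj s
      obtain ⟨h, hh, rfl⟩ := hCz q (hinj (by rw [map_mul, map_mul]; exact hs))
      exact ⟨h, by_contra fun hA => hss (by rw [← map_mul, ← map_mul, d.sq h hh hA, map_one, map_one]), rfl⟩
    obtain ⟨a₁, ha₁, rfl⟩ := hget b hb hbb
    obtain ⟨a₂, ha₂, rfl⟩ := hget c hc hcc
    exact hbc (by rw [← map_mul, ← map_mul, ← map_mul, ← map_mul, d.comm ha₁ ha₂])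
  have hodd := fr.odd
  have h3 := fr.three_lt
  have hdiag : ∀ x : G ⧸ oddCore G, x * x = 1 → x ∈ fr.diag := fun x hx => fr.mem_diag_of_sq hx
  have hH : ∀ h ∈ H, π h ∈ fr.diag := by
    intro h hh
    obtain ⟨x, hx, hxA⟩ := d.exists_out
    by_cases hA : h ∈ A
    · have h1 : π h = π x * π (x * h) := by rw [← map_mul, ← mul_assoc, d.sq x hx hxA, one_mul]
      rw [h1]
      exact mul_mem (hdiag _ (by rw [← map_mul, d.sq x hx hxA, map_one]))
        (hdiag _ (by rw [← map_mul, d.sq _ (mul_mem hx hh) fun e => hxA ((mul_mem_cancel_right hA).mp e), map_one]))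
    · exact hdiag _ (by rw [← map_mul, d.sq h hh hA, map_one])
  have hinj : Function.Injective fr.pgl := (injective_iff_map_eq_one _).mpr fun x hx => by
    have := (fr.pgl_eq_one_iff x).mp hx
    rw [hC, Subgroup.mem_bot] at this
    exact Subtype.ext this
  have hinner : ∀ x : fr.diag, fr.pgl x ∈ (phi (F := fr.F)).range ↔ (x : G ⧸ oddCore G) ∈ L := fun x => by
    rw [fr.pgl_mem_range_iff]
    constructor
    · rintro ⟨l, hl, w, hw, e⟩
      rw [hC, Subgroup.mem_bot] at hw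
      rw [e, hw, mul_one]; exact hl
    · intro h
      exact ⟨x, h, 1, one_mem _, (mul_one _).symm⟩
  have hall : ∀ q, q ∈ fr.diag := by
    intro q
    set b := q * π z * q⁻¹ with hb
    have hb2 : b * b = 1 := by rw [hb, conj_mul, hz2', mul_one, mul_inv_cancel]
    have hb1 : b ≠ 1 := fun e => hz1' (conj_eq_one_iff.mp e)
    have hne : ∀ a : G ⧸ oddCore G, ∀ ha : a * a = 1, a ≠ 1 → fr.pgl ⟨a, hdiag a ha⟩ ≠ 1 := fun a ha ha1 e =>
      ha1 (congrArg Subtype.val (hinj (e.trans (map_one _).symm)))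
    have hside : π z ∈ L ↔ b ∈ L :=
      ⟨fun h => (inferInstance : L.Normal).conj_mem _ h q,
        fun h => by simpa [hb, mul_assoc] using (inferInstance : L.Normal).conj_mem _ h q⁻¹⟩
    obtain ⟨m, hm⟩ := Model.invol_conj hodd h3
      (by rw [← map_mul, show (⟨_, hdiag _ hz2'⟩ : fr.diag) * ⟨_, hdiag _ hz2'⟩ = 1 from Subtype.ext hz2', map_one])
      (hne _ hz2' hz1')
      (by rw [← map_mul, show (⟨b, hdiag b hb2⟩ : fr.diag) * ⟨b, hdiag b hb2⟩ = 1 from Subtype.ext hb2, map_one])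
      (hne _ hb2 hb1) (by rw [hinner, hinner]; exact hside)
    obtain ⟨y, hy, hym⟩ : phi m ∈ (L.subgroupOf fr.diag).map fr.pgl := fr.map_L_pgl.symm ▸ ⟨m, rfl⟩
    have hyb : (y : G ⧸ oddCore G) * π z * (y : G ⧸ oddCore G)⁻¹ = b := congrArg Subtype.val
      (hinj (a₁ := y * ⟨_, hdiag _ hz2'⟩ * y⁻¹) (a₂ := ⟨b, hdiag b hb2⟩)
        (by rw [map_mul, map_mul, map_inv, hym, hm]))
    obtain ⟨h, hh, he⟩ := hCz ((y : G ⧸ oddCore G)⁻¹ * q) (by
      calc (y : G ⧸ oddCore G)⁻¹ * q * π z = (y : G ⧸ oddCore G)⁻¹ * b * q := by rw [hb]; group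
        _ = π z * ((y : G ⧸ oddCore G)⁻¹ * q) := by rw [← hyb]; group)
    rw [show q = (y : G ⧸ oddCore G) * π h by rw [he, mul_inv_cancel_left]]
    exact mul_mem (fr.L_le_diag hy) (hH h hh)
  let ψ : G ⧸ oddCore G →* Matrix.ProjGenLinGroup (Fin 2) fr.F :=
    fr.pgl.comp ((MonoidHom.id _).codRestrict fr.diag hall)
  have hψ : Function.Injective ψ := fun a b e => congrArg Subtype.val (hinj e)
  have hle : (phi (F := fr.F)).range ≤ ψ.range := by
    rw [← fr.map_L_pgl]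
    rintro _ ⟨x, -, rfl⟩
    exact ⟨x, rfl⟩
  refine ⟨fr.F, fr.field, fr.fintype, h3, ?_⟩
  by_cases heq : ψ.range ≤ (phi (F := fr.F)).range
  · exact Or.inl ⟨(MonoidHom.ofInjective hψ).trans
      ((MulEquiv.subgroupCongr (le_antisymm heq hle)).trans (MonoidHom.ofInjective phi_injective).symm)⟩
  · refine Or.inr ⟨MulEquiv.ofBijective ψ ⟨hψ, fun g => ?_⟩⟩
    obtain ⟨v, hv, hvout⟩ := Set.not_subset.mp heq
    haveI : Finite (Matrix.ProjGenLinGroup (Fin 2) fr.F) := Finite.of_surjective _ Matrix.ProjGenLinGroup.mk_surjective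
    have hidx := index_range (F := fr.F) fr.p (Model.p_ne_two fr.p hodd)
    by_cases hg : g ∈ (phi (F := fr.F)).range
    · exact hle hg
    · obtain ⟨y, hy⟩ : g * v ∈ ψ.range :=
        hle ((Subgroup.mul_mem_iff_of_index_two hidx).mpr (iff_of_false hg hvout))
      obtain ⟨v', rfl⟩ := hv
      exact ⟨y * v'⁻¹, by rw [map_mul, map_inv, hy, mul_inv_cancel_right]⟩

end CfsgLib.DGroup
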