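import Cfsg.Agent.Lib.PSL2.Aut
import Cfsg.Agent.Lib.PrimeGraphExt

/-!
The automorphisms of `PSL₂(2^n)` fixing the upper unitriangular group pointwise are inner.
-/

set_option autoImplicit false
set_option linter.unusedSectionVars false

namespace CfsgLib.DGroup

open Matrix CfsgLib.PSL2
open scoped MatrixGroups

variable {F : Type} [Field F] [Fintype F] [CharP F 2]

local notation "SL2'" => Matrix.SpecialLinearGroup (Fin 2) F
local notation "PSL2'" => Matrix.ProjectiveSpecialLinearGroup (Fin 2) F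

theorem conj_eq_of_mul_eq {g : GL (Fin 2) F} {A B : SL2'} (h : g.1 * A.1 = B.1 * g.1) :
    diagAut g (mk A) = mk B := by
  rw [diagAut_apply]
  congr 1
  apply Subtype.ext
  rw [coe_conjSL, h, Matrix.mul_assoc, ← Units.val_mul, mul_inv_cancel, Units.val_one, Matrix.mul_one]

/-- An automorphism fixing every `u(t)` is conjugation by some element. -/
theorem inner_of_fix_uu {φ : MulAut PSL2'} (h : ∀ t : F, φ (uu t) = uu t) :
    ∃ m : PSL2', φ = MulAut.conj m := by
  haveI : Fact (Nat.Prime 2) := ⟨Nat.prime_two⟩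
  obtain ⟨g, e, rfl⟩ := exists_diag_field 2 φ
  have hneg : ∀ M : Matrix (Fin 2) (Fin 2) F, -M = M := fun M => by
    ext i j; exact CharTwo.neg_eq _
  have key : ∀ t : F, g.1 * (uSL (e t)).1 = (uSL t).1 * g.1 := fun t => by
    have h1 := h t
    rw [MulAut.mul_apply, fieldAut_uu, uu_eq, uu_eq, diagAut_apply, mk_eq_mk] at h1
    have h2 : (uSL t).1 = (conjSL g (uSL (e t))).1 := by
      rcases h1 with h1 | h1
      · exact h1
      · rwa [hneg] at h1
    rw [h2, coe_conjSL, Matrix.mul_assoc, ← Units.val_mul, inv_mul_cancel, Units.val_one, Matrix.mul_one]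
  have k1 := key 1
  have hc : g.1 1 0 = 0 := by
    have := congrFun (congrFun k1 0) 0
    simpa [coe_uSL, Matrix.mul_apply, Fin.sum_univ_two] using this
  have ha : g.1 0 0 = g.1 1 1 := by
    have := congrFun (congrFun k1 0) 1
    simp [coe_uSL, Matrix.mul_apply, Fin.sum_univ_two] at this
    linear_combination this
  have ha0 : g.1 0 0 ≠ 0 := fun h0 => by
    have := ((Matrix.isUnit_iff_isUnit_det _).mp g.isUnit).ne_zero
    rw [Matrix.det_fin_two, h0, hc] at this
    simp at this
  have he : e = RingEquiv.refl F := RingEquiv.ext fun t => by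
    have := congrFun (congrFun (key t) 0) 1
    simp [coe_uSL, Matrix.mul_apply, Fin.sum_univ_two] at this
    have h1 : g.1 0 0 * e t = g.1 0 0 * t := by
      linear_combination this + t * ha.symm
    exact mul_left_cancel₀ ha0 h1
  refine ⟨mk (uSL (g.1 0 1 / g.1 0 0)), MulEquiv.ext fun x => ?_⟩
  obtain ⟨A, rfl⟩ := QuotientGroup.mk'_surjective _ x
  set U := uSL (g.1 0 1 / g.1 0 0) with hU
  have hg : g.1 = g.1 0 0 • U.1 := by
    ext i j
    fin_cases i <;> fin_cases j <;> simp [hU, coe_uSL, hc, ← ha, mul_div_cancel₀ _ ha0]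
  rw [MulAut.conj_apply, MulAut.mul_apply, he, fieldAut_apply, ← map_inv, ← map_mul, ← map_mul]
  have hA : SpecialLinearGroup.map (RingEquiv.refl F).toRingHom A = A := Subtype.ext (by ext i j; simp)
  rw [hA]
  refine conj_eq_of_mul_eq ?_
  rw [hg, Matrix.smul_mul, Matrix.mul_smul]
  exact congrArg (fun B : SL2' => g.1 0 0 • B.1) (inv_mul_cancel_right (U * A) U).symm

/-- The elements of every Sylow 2-subgroup of `PSL₂(2^n)` square to one. -/
theorem sylow_sq (R : Sylow 2 PSL2') : ∀ r ∈ (R : Subgroup PSL2'), r * r = 1 := by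
  haveI : Fact (Nat.Prime 2) := ⟨Nat.prime_two⟩
  intro r hr
  obtain ⟨g, hg⟩ := MulAction.exists_smul_eq PSL2' (uSylow (F := F) 2) R
  rw [← hg] at hr
  obtain ⟨_, ⟨t, rfl⟩, rfl⟩ := hr
  show MulAut.conj g (uHom t) * MulAut.conj g (uHom t) = 1
  rw [← map_mul, ← map_mul, show t * t = 1 from Multiplicative.toAdd.injective (CharTwo.add_self_eq_zero _),
    map_one, map_one]

end CfsgLib.DGroup
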