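import Cfsg.Agent.Lib.GW.DGroup.Basic
import Cfsg.Agent.Lib.GW.DGroup.FixUni

/-!
The D-group case of exponent two.
-/

set_option autoImplicit false
set_option linter.unusedSectionVars false

namespace CfsgLib.DGroup

open Cfsg CfsgLib.GW
open scoped MatrixGroups

universe u

variable {G : Type u} [Group G] [Finite G]

/-- The conclusion. -/
def Concl (G : Type u) [Group G] : Prop :=
  ∃ (N : Subgroup G) (_ : N.Normal), (Odd (Nat.card ↥N) ∨ ∃ m : ℕ, Odd m ∧ Nat.card ↥N = 2 * m) ∧
    ∃ (F : Type) (_ : Field F) (_ : Fintype F), 3 < Fintype.card F ∧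
      (Nonempty (G ⧸ N ≃* Matrix.ProjectiveSpecialLinearGroup (Fin 2) F) ∨
        Nonempty (G ⧸ N ≃* Matrix.ProjGenLinGroup (Fin 2) F))

/-- Every 2-element has a conjugate in a given Sylow 2-subgroup. -/
theorem conj_into (P : Sylow 2 G) {t : G} {k : ℕ} (ht : t ^ 2 ^ k = 1) : ∃ g : G, g * t * g⁻¹ ∈ (P : Subgroup G) := by
  haveI : Fact (Nat.Prime 2) := ⟨Nat.prime_two⟩
  have hp : IsPGroup 2 (Subgroup.zpowers t) := by
    intro y
    obtain ⟨i, hi⟩ := Subgroup.mem_zpowers_iff.mp y.2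
    refine ⟨k, Subtype.ext ?_⟩
    rw [SubmonoidClass.coe_pow, ← hi, ← zpow_natCast, zpow_comm, zpow_natCast, ht, one_zpow]
    rfl
  obtain ⟨R, hR⟩ := hp.exists_le_sylow
  obtain ⟨g, hg⟩ := MulAction.exists_smul_eq G R P
  refine ⟨g, ?_⟩
  rw [← hg]
  exact ⟨t, hR (Subgroup.mem_zpowers t), rfl⟩

/-- A group isomorphic to `SL₂(2^n)` times an abelian group: the order of `2^n` when `4` divides the order. -/
theorem three_lt_of_four {F : Type} [Field F] [Fintype F] [CharP F 2]
    (h : 4 ∣ Nat.card (Matrix.SpecialLinearGroup (Fin 2) F)) : 3 < Fintype.card F := by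
  have h1 : 1 < Fintype.card F := Fintype.one_lt_card
  obtain ⟨n, -, hn⟩ := FiniteField.card F 2
  by_contra h3
  have h2 : Fintype.card F = 2 := by
    obtain ⟨k, hk⟩ : 2 ∣ Fintype.card F := hn ▸ dvd_pow_self 2 n.ne_zero
    omega
  rw [CfsgLib.SLCard.card_SL_two, h2] at h
  norm_num at h

/-- A D-group of exponent two. -/
theorem concl_of_exp {H A : Subgroup G} (h : DHyp H A) (hE : ∀ x ∈ H, x * x = 1)
    (hns : ¬ Group.IsSolvable G) : Concl G := by
  haveI : Fact (Nat.Prime 2) := ⟨Nat.prime_two⟩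
  have hcomm : ∀ a ∈ H, ∀ b ∈ H, a * b = b * a := fun a ha b hb => by
    have h1 := inv_eq_self (hE (a * b) (mul_mem ha hb))
    rw [mul_inv_rev, inv_eq_self (hE a ha), inv_eq_self (hE b hb)] at h1
    exact h1.symm
  have hC : ∀ j ∈ H, j ≠ 1 → Subgroup.centralizer ({j} : Set G) = H := fun j hj hj1 =>
    h.cent j hj (orderOf_eq_prime (by rw [sq]; exact hE j hj) hj1) fun x hx => hcomm x hx j hj
  have hp : IsPGroup 2 H := fun x => ⟨1, Subtype.ext (by
    rw [SubmonoidClass.coe_pow, pow_one, sq]; exact hE x x.2)⟩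
  obtain ⟨P, hP⟩ := hp.exists_le_sylow
  have hne : ∃ j ∈ H, j ≠ 1 := by
    obtain ⟨x, hx, hxA⟩ := SetLike.exists_of_lt h.lt
    exact ⟨x, hx, fun e => hxA (e ▸ one_mem A)⟩
  obtain ⟨j, hj, hj1⟩ := hne
  have hPH : (P : Subgroup G) = H := by
    refine le_antisymm ?_ hP
    haveI : Nontrivial (P : Subgroup G) := ⟨⟨⟨j, hP hj⟩, 1, fun e => hj1 (congrArg Subtype.val e)⟩⟩
    haveI := P.2.center_nontrivial
    obtain ⟨c, hc1⟩ := exists_ne (1 : Subgroup.center (P : Subgroup G))
    have hcc : ∀ p ∈ (P : Subgroup G), p * ((c : (P : Subgroup G)) : G) = (c : (P : Subgroup G)) * p := fun p hp' =>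
      congrArg Subtype.val (Subgroup.mem_center_iff.mp c.2 ⟨p, hp'⟩)
    have hcH : ((c : (P : Subgroup G)) : G) ∈ H := by
      rw [← hC j hj hj1, Subgroup.mem_centralizer_singleton_iff]
      exact (hcc j (hP hj)).symm
    have hc1' : ((c : (P : Subgroup G)) : G) ≠ 1 := fun e => hc1 (Subtype.ext (Subtype.ext e))
    intro p hp'
    rw [← hC _ hcH hc1', Subgroup.mem_centralizer_singleton_iff]
    exact hcc p hp'
  have hab : ∀ t : G, orderOf t = 2 → IsMulCommutative ↥(Subgroup.centralizer ({t} : Set G)) := by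
    intro t ht
    obtain ⟨g, hg⟩ := conj_into P (t := t) (k := 1) (by rw [pow_one, ← ht]; exact pow_orderOf_eq_one t)
    rw [hPH] at hg
    have hw1 : g * t * g⁻¹ ≠ 1 := fun e => by
      rw [conj_eq_one_iff.mp e, orderOf_one] at ht; norm_num at ht
    have hmem : ∀ a ∈ Subgroup.centralizer ({t} : Set G), g * a * g⁻¹ ∈ H := fun a ha => by
      rw [← hC _ hg hw1, Subgroup.mem_centralizer_singleton_iff, conj_mul, conj_mul,
        Subgroup.mem_centralizer_singleton_iff.mp ha]
    refine ⟨⟨fun a b => Subtype.ext ?_⟩⟩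
    have h1 := hcomm _ (hmem a a.2) _ (hmem b b.2)
    rw [conj_mul, conj_mul] at h1
    exact mul_left_cancel (mul_right_cancel h1)
  have h4 : 4 ∣ Nat.card (P : Subgroup G) := hPH ▸ h.four
  have heven : Even (Nat.card G) := even_iff_two_dvd.mpr
    ((show (2 : ℕ) ∣ 4 by norm_num).trans (h4.trans (Subgroup.card_subgroup_dvd_card _)))
  rcases Cfsg.Agent.S2202.result heven hab with hcyc | hnor | ⟨F, hF, hFt, B, hB, hBf, hch, hBo, ⟨e⟩⟩
  · exfalso
    haveI := hcyc P
    obtain ⟨g, hg⟩ := IsCyclic.exists_generator (α := (P : Subgroup G))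
    have h1 : orderOf g = Nat.card (P : Subgroup G) := orderOf_eq_card_of_forall_mem_zpowers hg
    have h2 : orderOf g ∣ 2 := orderOf_dvd_of_pow_eq_one (Subtype.ext (by
      rw [SubmonoidClass.coe_pow, sq]; exact hE g (hPH ▸ g.2)))
    have := Nat.le_of_dvd two_pos (h1 ▸ h2)
    have := Nat.le_of_dvd (Nat.card_pos) h4
    omega
  · exact absurd (solvable_of_normal_sylow P (hnor P)) hns
  · haveI := hch
    have hB1 : Nat.card B = 1 := by
      by_contra hne1
      haveI : Nontrivial B := by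
        rw [← Finite.one_lt_card_iff_nontrivial]
        have := Nat.card_pos (α := B)
        omega
      obtain ⟨b, hb⟩ := exists_ne (1 : B)
      have hcent : e.symm (1, b) ∈ H := by
        rw [← hC j hj hj1, Subgroup.mem_centralizer_singleton_iff]
        apply e.injective
        rw [map_mul, map_mul, e.apply_symm_apply]
        exact Prod.ext (by simp) (mul_comm _ _)
      have h2 : (1, b) * (1, b) = (1 : Matrix.SpecialLinearGroup (Fin 2) F × B) := by
        rw [← e.apply_symm_apply (1, b), ← map_mul, hE _ hcent, map_one]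
      have h3 : orderOf b ∣ 2 := orderOf_dvd_of_pow_eq_one (by
        have := congrArg Prod.snd h2
        rwa [Prod.snd_mul, Prod.snd_one, ← sq] at this)
      exact hb (orderOf_eq_one_iff.mp (Nat.eq_one_of_dvd_coprimes (Nat.coprime_two_left.mpr hBo) h3
        (orderOf_dvd_natCard b)))
    haveI : Subsingleton B := (Nat.card_eq_one_iff_unique.mp hB1).1
    haveI : Unique B := uniqueOfSubsingleton 1
    let e' : G ≃* Matrix.SpecialLinearGroup (Fin 2) F := e.trans MulEquiv.prodUnique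
    refine ⟨⊥, inferInstance, Or.inl (by rw [Subgroup.card_bot]; exact odd_one), F, hF, hFt, ?_,
      Or.inl ⟨QuotientGroup.quotientBot.trans (e'.trans CfsgLib.PrimeGraphExt.pslEquiv.symm)⟩⟩
    refine three_lt_of_four ?_
    rw [← Nat.card_congr e'.toEquiv]
    exact h4.trans (Subgroup.card_subgroup_dvd_card _)

end CfsgLib.DGroup
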