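import Cfsg.Agent.Lib.GW.DGroup.Exp
import Cfsg.Agent.Lib.Elementary

/-!
A Sylow 2-subgroup of a D-group inside one of the group.
-/

set_option autoImplicit false
set_option linter.unusedSectionVars false

namespace CfsgLib.DGroup

open Cfsg CfsgLib.GW

universe u

variable {G : Type u} [Group G] {H A : Subgroup G}

/-- The elements of `A` squaring to one. -/
def DDih.Zs (d : DDih H A) : Subgroup G where
  carrier := {a | a ∈ A ∧ a * a = 1}
  one_mem' := ⟨one_mem A, one_mul 1⟩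
  mul_mem' := fun {a b} ha hb => ⟨mul_mem ha.1 hb.1, by
    rw [mul_assoc, ← mul_assoc b, ← d.comm ha.1 hb.1, mul_assoc a b b, hb.2, mul_one, ha.2]⟩
  inv_mem' := fun {a} ha => ⟨inv_mem ha.1, by rw [← mul_inv_rev, ha.2, inv_one]⟩

theorem DDih.mem_Zs (d : DDih H A) {a : G} : a ∈ d.Zs ↔ a ∈ A ∧ a * a = 1 := Iff.rfl

variable [Finite G]

/-- A Sylow 2-subgroup meeting `H` in one of its Sylow 2-subgroups. -/
theorem DDih.exists_local (d : DDih H A) :
    ∃ P : Sylow 2 G, (∀ a ∈ A, a * a = 1 → a ∈ (P : Subgroup G)) ∧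
      (∃ x ∈ (P : Subgroup G), x ∈ H ∧ x ∉ A) ∧
      Odd (((P : Subgroup G) ⊓ H).subgroupOf H).index := by
  haveI : Fact (Nat.Prime 2) := ⟨Nat.prime_two⟩
  obtain ⟨S⟩ : Nonempty (Sylow 2 H) := inferInstance
  obtain ⟨P, hP⟩ := (S.2.map H.subtype).exists_le_sylow
  have hS : ((P : Subgroup G) ⊓ H).subgroupOf H = (S : Subgroup H) := by
    refine S.is_maximal' ?_ fun s hs => Subgroup.mem_subgroupOf.mpr ⟨hP ⟨s, hs, rfl⟩, s.2⟩
    exact (P.2.to_le inf_le_left).of_equiv (Subgroup.subgroupOfEquivOfLe inf_le_right).symm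
  have hodd : Odd (((P : Subgroup G) ⊓ H).subgroupOf H).index := by
    rw [hS, ← Nat.not_even_iff_odd, even_iff_two_dvd]
    exact S.not_dvd_index
  refine ⟨P, fun a ha ha2 => ?_, ?_, hodd⟩
  · haveI : (d.Zs.subgroupOf H).Normal := ⟨fun n hn g => by
      have hn' := Subgroup.mem_subgroupOf.mp hn
      rw [Subgroup.mem_subgroupOf, Subgroup.coe_mul, Subgroup.coe_mul, Subgroup.coe_inv,
        d.commutes_invol hn'.1 hn'.2 g g.2, mul_inv_cancel_right]
      exact hn'⟩
    have hZ : IsPGroup 2 (d.Zs.subgroupOf H) := fun z => ⟨1, Subtype.ext (Subtype.ext (by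
      rw [pow_one, sq]; exact (Subgroup.mem_subgroupOf.mp z.2).2))⟩
    have h1 := S.is_maximal' (S.2.to_sup_of_normal_right hZ) le_sup_left
    have h2 : (⟨a, d.lt.le ha⟩ : H) ∈ (S : Subgroup H) := h1 ▸ Subgroup.mem_sup_right ⟨ha, ha2⟩
    exact hP ⟨_, h2, rfl⟩
  · by_contra hne
    push Not at hne
    have hle : ((P : Subgroup G) ⊓ H).subgroupOf H ≤ A.subgroupOf H := fun p hp => hne p hp.1 p.2
    obtain ⟨x, hx, hxA⟩ := d.exists_out
    have h2 : (A.subgroupOf H).index = 2 := by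
      refine Subgroup.index_eq_two_iff.mpr ⟨⟨x, hx⟩, fun b => ?_⟩
      simp only [Subgroup.mem_subgroupOf, Subgroup.coe_mul]
      by_cases hb : (b : G) ∈ A
      · exact Or.inr ⟨hb, fun e => hxA ((mul_mem_cancel_left hb).mp e)⟩
      · exact Or.inl ⟨d.idx b b.2 hb x hx hxA, hb⟩
    have := Subgroup.index_dvd_of_le hle
    rw [h2, ← even_iff_two_dvd] at this
    exact Nat.not_even_iff_odd.mpr hodd this

end CfsgLib.DGroup
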