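import Cfsg.Agent.Lib.GW.DGroup.NonDihShape
import Cfsg.Agent.S0225

/-!
One central involution, semidihedral Sylow 2-subgroups: no such group.
-/

set_option autoImplicit false
set_option linter.unusedSectionVars false

namespace CfsgLib.DGroup

open Cfsg CfsgLib.GW

universe u

variable {G : Type u} [Group G] [Finite G] {H A : Subgroup G} {z : G} {P : Sylow 2 G}

namespace Semi

variable (s : Semi H A z P)
include s

theorem N_four : ∃ M : ℕ, 0 < M ∧ s.N = 4 * M := by
  obtain ⟨k, hk, he⟩ := s.pow2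
  exact ⟨2 ^ (k - 2), Nat.two_pow_pos _, by rw [he, show (4 : ℕ) = 2 ^ 2 by norm_num, ← pow_add]; congr 1; omega⟩

theorem zpow_eq_one (i : ℤ) : s.a ^ i = 1 ↔ (2 * (s.N : ℤ)) ∣ i := by
  rw [← orderOf_dvd_iff_zpow_eq_one, s.order]
  push_cast
  rfl

theorem t_zpow (i : ℤ) : s.t * s.a ^ i = s.a ^ (((s.N : ℤ) - 1) * i) * s.t := by
  rw [zpow_mul, ← s.conj, conj_zpow, inv_mul_cancel_right]

theorem zpow_ne_t (i j : ℤ) : s.a ^ i ≠ s.a ^ j * s.t := fun e =>
  s.t_out (Subgroup.mem_zpowers_iff.mpr ⟨i - j, by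
    rw [sub_eq_neg_add, zpow_add, e, ← mul_assoc, zpow_neg, inv_mul_cancel, one_mul]⟩)

theorem parity {i j : ℤ} (h : s.a ^ i = s.a ^ j) : Even i ↔ Even j := by
  have h1 : s.a ^ (i - j) = 1 := by rw [zpow_sub, h, mul_inv_cancel]
  obtain ⟨c, hc⟩ := (s.zpow_eq_one _).mp h1
  rw [show i = j + 2 * ((s.N : ℤ) * c) by linarith, Int.even_add]
  simp

theorem sq_t (i : ℤ) : (s.a ^ i * s.t) * (s.a ^ i * s.t) = s.a ^ ((s.N : ℤ) * i) := by
  rw [mul_assoc, ← mul_assoc s.t, s.t_zpow, mul_assoc (s.a ^ _) s.t s.t, s.t_sq, mul_one, ← zpow_add]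
  congr 1
  ring

theorem w_sq : s.a ^ s.N * s.a ^ s.N = 1 := by
  rw [← pow_add, ← two_mul, ← s.order, pow_orderOf_eq_one]

theorem w_ne : s.a ^ s.N ≠ 1 := fun e => by
  obtain ⟨M, hM, hN⟩ := s.N_four
  have h := Nat.le_of_dvd (by omega) (orderOf_dvd_of_pow_eq_one e)
  rw [s.order] at h
  omega

/-- The elements squaring to one. -/
theorem invol_cases (p : (P : Subgroup G)) (hp : p * p = 1) :
    p = 1 ∨ p = s.a ^ s.N ∨ ∃ i : ℤ, Even i ∧ p = s.a ^ i * s.t := by
  obtain ⟨M, hM, hN⟩ := s.N_four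
  rcases s.gen p with ⟨i, rfl⟩ | ⟨i, rfl⟩
  · rw [← zpow_add, s.zpow_eq_one] at hp
    obtain ⟨c, hc⟩ := hp
    have hi : i = (s.N : ℤ) * c := by linarith
    rcases Int.even_or_odd c with ⟨l, hl⟩ | ⟨l, hl⟩
    · exact Or.inl ((s.zpow_eq_one i).mpr ⟨l, by rw [hi, hl]; ring⟩)
    · refine Or.inr (Or.inl ?_)
      rw [← zpow_natCast, hi, hl, mul_add, mul_one, zpow_add, (s.zpow_eq_one _).mpr ⟨l, by ring⟩, one_mul]
  · refine Or.inr (Or.inr ⟨i, ?_, rfl⟩)
    rw [s.sq_t, s.zpow_eq_one] at hp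
    obtain ⟨c, hc⟩ := hp
    exact ⟨c, mul_left_cancel₀ (show (s.N : ℤ) ≠ 0 by omega) (by linarith)⟩

end Semi

/-- The even elements together with the odd multiples of `t`. -/
def Semi.half (s : Semi H A z P) : Subgroup (P : Subgroup G) where
  carrier := {p | (∃ i : ℤ, Even i ∧ p = s.a ^ i) ∨ ∃ i : ℤ, Odd i ∧ p = s.a ^ i * s.t}
  one_mem' := Or.inl ⟨0, ⟨0, rfl⟩, (zpow_zero _).symm⟩
  mul_mem' := by
    obtain ⟨M, -, hN⟩ := s.N_four
    have hodd : Odd ((s.N : ℤ) - 1) := ⟨2 * (M : ℤ) - 1, by rw [hN]; push_cast; ring⟩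
    rintro p q (⟨i, hi, rfl⟩ | ⟨i, hi, rfl⟩) (⟨j, hj, rfl⟩ | ⟨j, hj, rfl⟩)
    · exact Or.inl ⟨i + j, hi.add hj, (zpow_add _ i j).symm⟩
    · exact Or.inr ⟨i + j, hi.add_odd hj, by rw [← mul_assoc, ← zpow_add]⟩
    · exact Or.inr ⟨i + ((s.N : ℤ) - 1) * j, hi.add_even (hj.mul_left _),
        by rw [mul_assoc, s.t_zpow, ← mul_assoc, ← zpow_add]⟩
    · refine Or.inl ⟨i + ((s.N : ℤ) - 1) * j, hi.add_odd (hodd.mul hj), ?_⟩
      rw [mul_assoc, ← mul_assoc s.t, s.t_zpow, mul_assoc (s.a ^ _) s.t s.t, s.t_sq, mul_one, ← zpow_add]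
  inv_mem' := by
    obtain ⟨M, -, hN⟩ := s.N_four
    have hodd : Odd ((s.N : ℤ) - 1) := ⟨2 * (M : ℤ) - 1, by rw [hN]; push_cast; ring⟩
    rintro p (⟨i, hi, rfl⟩ | ⟨i, hi, rfl⟩)
    · exact Or.inl ⟨-i, hi.neg, (zpow_neg _ i).symm⟩
    · refine Or.inr ⟨((s.N : ℤ) - 1) * -i, hodd.mul hi.neg, ?_⟩
      rw [mul_inv_rev, inv_eq_of_mul_eq_one_left s.t_sq, ← zpow_neg, s.t_zpow]

theorem Semi.mem_half (s : Semi H A z P) {p : (P : Subgroup G)} :
    p ∈ s.half ↔ (∃ i : ℤ, Even i ∧ p = s.a ^ i) ∨ ∃ i : ℤ, Odd i ∧ p = s.a ^ i * s.t := Iff.rfl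

theorem Semi.index_half (s : Semi H A z P) : s.half.index = 2 := by
  refine Subgroup.index_eq_two_iff.mpr ⟨s.t, fun b => ?_⟩
  have ht : s.t ∉ s.half := by
    rintro (⟨i, -, e⟩ | ⟨i, hi, e⟩)
    · exact s.zpow_ne_t i 0 (by rw [zpow_zero, one_mul]; exact e.symm)
    · have h1 : s.a ^ i = 1 := mul_right_cancel (b := s.t) (by rw [one_mul]; exact e.symm)
      exact Int.not_even_iff_odd.mpr hi ((s.parity (h1.trans (zpow_zero _).symm)).mpr ⟨0, rfl⟩)
  by_cases hb : b ∈ s.half
  · exact Or.inr ⟨hb, fun e => ht ((Subgroup.mul_mem_cancel_left _ hb).mp e)⟩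
  refine Or.inl ⟨?_, hb⟩
  rcases s.gen b with ⟨i, rfl⟩ | ⟨i, rfl⟩
  · exact Or.inr ⟨i, Int.not_even_iff_odd.mp fun h => hb (Or.inl ⟨i, h, rfl⟩), rfl⟩
  · refine Or.inl ⟨i, Int.not_odd_iff_even.mp fun h => hb (Or.inr ⟨i, h, rfl⟩), ?_⟩
    rw [mul_assoc, s.t_sq, mul_one]

/-- A sign with `w` the only involution of `P` in its kernel. -/
theorem Semi.exists_sign' (s : Semi H A z P) (d : DDih H A) (hzA : z ∈ A) (hz2 : z * z = 1) (hz1 : z ≠ 1) :
    ∃ f : G →* ℤˣ, f z = -1 ∧ f ((s.a ^ s.N : (P : Subgroup G)) : G) = 1 ∧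
      (∀ p ∈ (P : Subgroup G), p * p = 1 → p ≠ 1 → f p = 1 → p = ((s.a ^ s.N : (P : Subgroup G)) : G)) ∧
      z ≠ ((s.a ^ s.N : (P : Subgroup G)) : G) := by
  haveI : Fact (Nat.Prime 2) := ⟨Nat.prime_two⟩
  obtain ⟨M, hM, hN⟩ := s.N_four
  set w := s.a ^ s.N with hw
  have hwc : ∀ p : (P : Subgroup G), p * w = w * p := by
    have h2 : s.t * w = w * s.t := by
      rw [hw, ← zpow_natCast, s.t_zpow]
      congr 1
      rw [← mul_inv_eq_one, ← zpow_neg, ← zpow_add, s.zpow_eq_one]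
      exact ⟨2 * (M : ℤ) - 1, by rw [hN]; push_cast; ring⟩
    intro p
    rcases s.gen p with ⟨i, rfl⟩ | ⟨i, rfl⟩
    · exact ((Commute.refl s.a).zpow_left i).pow_right s.N |>.eq
    · rw [mul_assoc, h2, ← mul_assoc, ((Commute.refl s.a).zpow_left i).pow_right s.N |>.eq, mul_assoc]
  have hnot : ∀ g : G, g * (w : G) * g⁻¹ ≠ z := by
    intro g hg
    have hle : (P : Subgroup G).map (MulAut.conj g).toMonoidHom ≤ H := by
      rintro _ ⟨p, hp, rfl⟩
      rw [← d.cent_invol hzA hz2 hz1, Subgroup.mem_centralizer_singleton_iff, ← hg]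
      show g * p * g⁻¹ * (g * w * g⁻¹) = g * w * g⁻¹ * (g * p * g⁻¹)
      rw [conj_mul, conj_mul]
      congr 2
      exact congrArg Subtype.val (hwc ⟨p, hp⟩)
    have h1 := Subgroup.card_dvd_of_le hle
    rw [Subgroup.card_map_of_injective (MulEquiv.injective _)] at h1
    have h2 : 8 ∣ Nat.card (P : Subgroup G) :=
      (show (8 : ℕ) ∣ orderOf s.a by rw [s.order, hN]; exact ⟨M, by ring⟩).trans (orderOf_dvd_natCard _)
    have h3 := s.four
    have h4 := h2.trans h1
    omega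
  have hzw : z ≠ w := fun e => hnot 1 (by rw [← e]; group)
  obtain ⟨j, hj, hzt⟩ : ∃ j : ℤ, Even j ∧ (⟨z, s.zP⟩ : (P : Subgroup G)) = s.a ^ j * s.t := by
    rcases s.invol_cases ⟨z, s.zP⟩ (Subtype.ext hz2) with e | e | e
    · exact absurd (congrArg Subtype.val e) hz1
    · exact absurd (congrArg Subtype.val e) hzw
    · exact e
  have hidx : (s.half.map (P : Subgroup G).subtype).index = 2 * (P : Subgroup G).index := by
    rw [Subgroup.index_map_subtype, s.index_half]
  obtain ⟨f, hf⟩ := exists_sign (s.half.map (P : Subgroup G).subtype) hidx (by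
    rw [← Nat.not_even_iff_odd, even_iff_two_dvd]; exact P.not_dvd_index)
  have hfz : f z = -1 := hf z hz2 fun g hg => by
    obtain ⟨p, hp, hpz⟩ := hg
    have hpz' : (p : G) = g⁻¹ * z * g := hpz
    have hp2 : p * p = 1 := Subtype.ext (by
      rw [Subgroup.coe_mul, hpz', show g⁻¹ * z * g * (g⁻¹ * z * g) = g⁻¹ * (z * z) * g by group, hz2]
      simp)
    rcases s.invol_cases p hp2 with rfl | rfl | ⟨i, hi, rfl⟩
    · refine hz1 ?_
      rw [show z = g * (g⁻¹ * z * g) * g⁻¹ by group, ← hpz']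
      simp
    · exact hnot g (by rw [hpz']; group)
    · rcases hp with ⟨l, -, e⟩ | ⟨l, hl, e⟩
      · exact s.zpow_ne_t l i e.symm
      · exact Int.not_even_iff_odd.mpr hl ((s.parity (mul_right_cancel e)).mp hi)
  let f' : (P : Subgroup G) →* ℤˣ := f.comp (P : Subgroup G).subtype
  have hev : ∀ i : ℤ, Even i → f' (s.a ^ i) = 1 := by
    rintro i ⟨l, rfl⟩
    rw [zpow_add, map_mul, Int.units_mul_self]
  refine ⟨f, hfz, ?_, fun p hp hp2 hp1 hfp => ?_, hzw⟩
  · have h1 := hev (s.N : ℤ) ⟨2 * (M : ℤ), by rw [hN]; push_cast; ring⟩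
    rwa [zpow_natCast] at h1
  rcases s.invol_cases ⟨p, hp⟩ (Subtype.ext hp2) with e | e | ⟨i, hi, e⟩
  · exact absurd (congrArg Subtype.val e) hp1
  · exact congrArg Subtype.val e
  · exfalso
    have h1 : f' (⟨p, hp⟩ : (P : Subgroup G)) = f' (⟨z, s.zP⟩ : (P : Subgroup G)) := by
      rw [e, hzt, map_mul, map_mul, hev i hi, hev j hj]
    have h2 : f p = f z := h1
    rw [hfp, hfz] at h2
    exact absurd h2 (by decide)

/-- A group with semidihedral Sylow 2-subgroups and a D-group centraliser is solvable. -/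
theorem Semi.false (s : Semi H A z P) (hGW : CfsgLib.GWConseq.GWThm.{u}) (d : DDih H A) (hzA : z ∈ A)
    (hz2 : z * z = 1) (hz1 : z ≠ 1) (hns : ¬ Group.IsSolvable G) : False := by
  classical
  haveI : Fact (Nat.Prime 2) := ⟨Nat.prime_two⟩
  obtain ⟨f, hfz, hfw, hsole, hzw⟩ := s.exists_sign' d hzA hz2 hz1
  set w := ((s.a ^ s.N : (P : Subgroup G)) : G) with hwdef
  have hw2 : w * w = 1 := congrArg Subtype.val s.w_sq
  have hw1 : w ≠ 1 := fun e => s.w_ne (Subtype.ext e)
  have hwP : w ∈ (P : Subgroup G) := (s.a ^ s.N).2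
  set K := f.ker with hK
  have hwK : w ∈ K := hfw
  have hOK : ∀ o ∈ oddCore G, f o = 1 := fun o ho => orderOf_eq_one_iff.mp (Nat.eq_one_of_dvd_coprimes
    (Nat.coprime_two_left.mpr (CfsgLib.odd_card_oddCore (G := G)))
    (orderOf_dvd_of_pow_eq_one (Int.units_sq _))
    ((orderOf_map_dvd f o).trans (by
      rw [← Subgroup.orderOf_mk o ho]; exact orderOf_dvd_natCard _)))
  have hOP : ∀ p ∈ (P : Subgroup G), p ∈ oddCore G → p = 1 := fun p hp ho => by
    obtain ⟨n, hn⟩ := P.2.exists_card_eq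
    refine orderOf_eq_one_iff.mp (Nat.eq_one_of_dvd_coprimes
      (Nat.Coprime.pow_left n (Nat.coprime_two_left.mpr (CfsgLib.odd_card_oddCore (G := G)))) ?_ ?_)
    · rw [← hn, ← Subgroup.orderOf_mk p hp]; exact orderOf_dvd_natCard _
    · rw [← Subgroup.orderOf_mk p ho]; exact orderOf_dvd_natCard _
  -- `K` has no four-subgroup
  have hrank : ∀ E : Subgroup K, ¬ IsKleinFour E := by
    intro E hE
    haveI := hE
    have hp : IsPGroup 2 (E.map K.subtype) := (IsPGroup.of_card (p := 2) (n := 2) (by rw [hE.card_four]; norm_num) :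
      IsPGroup 2 E).map K.subtype
    obtain ⟨R, hR⟩ := hp.exists_le_sylow
    obtain ⟨g, hg⟩ := MulAction.exists_smul_eq G R P
    have hall : ∀ e : E, e ≠ 1 → g * ((e : K) : G) * g⁻¹ = w := fun e he => by
      refine hsole _ (hg ▸ ⟨_, hR ⟨e, e.2, rfl⟩, rfl⟩) ?_ (fun h => he (Subtype.ext (Subtype.ext
        (conj_eq_one_iff.mp h)))) ((inferInstance : f.ker.Normal).conj_mem _ (e : K).2 g)
      rw [conj_mul, show ((e : K) : G) * ((e : K) : G) = 1 from
        congrArg (fun x : E => ((x : K) : G)) (IsKleinFour.mul_self e)]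
      group
    let h : E → Fin 2 := fun e => if e = 1 then 0 else 1
    have hh : Function.Injective h := by
      intro a b hab
      by_cases ha : a = 1 <;> by_cases hb : b = 1
      · rw [ha, hb]
      · exact absurd hab (by simp only [h, if_pos ha, if_neg hb]; decide)
      · exact absurd hab (by simp only [h, if_neg ha, if_pos hb]; decide)
      · exact Subtype.ext (Subtype.ext (mul_left_cancel (mul_right_cancel ((hall a ha).trans (hall b hb).symm))))
    have := Nat.card_le_card_of_injective h hh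
    rw [hE.card_four, Nat.card_fin] at this
    omega
  have heven : Even (Nat.card K) := by
    rw [even_iff_two_dvd, ← orderOf_eq_prime (show (⟨w, hwK⟩ : K) ^ 2 = 1 from Subtype.ext (by
      rw [SubmonoidClass.coe_pow, sq]; exact hw2)) (fun e => hw1 (congrArg Subtype.val e))]
    exact orderOf_dvd_natCard _
  obtain ⟨z₀, hz₀, N₀, hN₀n, hN₀, hz₀c⟩ := Cfsg.Agent.S0225.result heven hrank
  haveI := hN₀n
  set π := QuotientGroup.mk' (oddCore G) with hπdef
  have hNO : ∀ k ∈ N₀, π (k : G) = 1 := fun k hk => by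
    refine (QuotientGroup.eq_one_iff _).mpr ?_
    have h1 : (oddCore K).map K.subtype ≤ oddCore G := CfsgLib.le_oddCore (by
      rw [Subgroup.card_map_of_injective K.subtype_injective]; exact CfsgLib.odd_card_oddCore)
    exact h1 ⟨k, CfsgLib.le_oddCore hN₀ hk, rfl⟩
  have hwcK : ∀ k ∈ K, π k * π w = π w * π k := by
    have hz₀' : orderOf (z₀ : G) = 2 := by rw [Subgroup.orderOf_coe, hz₀]
    have hp : IsPGroup 2 (Subgroup.zpowers (z₀ : G)) := IsPGroup.of_card (n := 1) (by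
      rw [Nat.card_zpowers, hz₀', pow_one])
    obtain ⟨R, hR⟩ := hp.exists_le_sylow
    obtain ⟨g, hg⟩ := MulAction.exists_smul_eq G R P
    have hgw : g * (z₀ : G) * g⁻¹ = w := by
      refine hsole _ (hg ▸ ⟨_, hR (Subgroup.mem_zpowers _), rfl⟩) ?_ (fun e => by
        rw [conj_eq_one_iff.mp e, orderOf_one] at hz₀'; norm_num at hz₀')
        ((inferInstance : f.ker.Normal).conj_mem _ z₀.2 g)
      rw [conj_mul, Involutions.mul_self_eq_one_of_orderOf hz₀']
      group
    intro k hk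
    have hk' : g⁻¹ * k * g ∈ K := by
      have h := (inferInstance : f.ker.Normal).conj_mem _ hk g⁻¹
      rwa [inv_inv] at h
    have h1 := hNO _ (hz₀c ⟨g⁻¹ * k * g, hk'⟩)
    simp only [Subgroup.coe_mul, Subgroup.coe_inv, map_mul, map_inv] at h1
    rw [mul_inv_eq_one, mul_inv_eq_iff_eq_mul] at h1
    rw [← hgw]
    simp only [map_mul, map_inv]
    calc π k * (π g * π z₀ * (π g)⁻¹) = π g * ((π g)⁻¹ * π k * π g * π z₀) * (π g)⁻¹ := by group
      _ = π g * (π z₀ * ((π g)⁻¹ * π k * π g)) * (π g)⁻¹ := by rw [h1]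
      _ = _ := by group
  have hπP : ∀ p ∈ (P : Subgroup G), π p = 1 → p = 1 := fun p hp e => hOP p hp ((QuotientGroup.eq_one_iff p).mp e)
  have hπw2 : π w * π w = 1 := by rw [← map_mul, hw2, map_one]
  have hπw1 : π w ≠ 1 := fun e => hw1 (hπP w hwP e)
  have hwc : ∀ q, q * π w = π w * q := by
    intro q
    obtain ⟨h, rfl⟩ := QuotientGroup.mk'_surjective (oddCore G) q
    set w' := h * w * h⁻¹ with hw'
    have hw'K : w' ∈ K := (inferInstance : f.ker.Normal).conj_mem _ hwK h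
    have hcm : π w' * π w = π w * π w' := hwcK w' hw'K
    have hp1 : IsPGroup 2 (Subgroup.zpowers (π w)) := by
      refine IsPGroup.of_card (n := 1) ?_
      rw [Nat.card_zpowers, pow_one, orderOf_eq_prime (by rw [sq]; exact hπw2) hπw1]
    have hw'2 : π w' * π w' = 1 := by rw [hw', ← map_mul, conj_mul, hw2]; simp
    have hw'1 : π w' ≠ 1 := fun e => hπw1 (by
      rw [hw', map_mul, map_mul, map_inv] at e; exact conj_eq_one_iff.mp e)
    have hp2 : IsPGroup 2 (Subgroup.zpowers (π w')) := by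
      refine IsPGroup.of_card (n := 1) ?_
      rw [Nat.card_zpowers, pow_one, orderOf_eq_prime (by rw [sq]; exact hw'2) hw'1]
    have hnorm : Subgroup.zpowers (π w') ≤ Subgroup.normalizer (Subgroup.zpowers (π w) : Set (G ⧸ oddCore G)) := by
      refine le_trans ?_ (Subgroup.centralizer_le_normalizer _)
      rw [Subgroup.zpowers_le, Subgroup.mem_centralizer_iff]
      rintro _ ⟨i, rfl⟩
      exact (Commute.zpow_left (show Commute (π w) (π w') from hcm.symm) i).eq
    obtain ⟨R, hR⟩ := (IsPGroup.to_sup_of_normal_right' hp2 hp1 hnorm).exists_le_sylow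
    obtain ⟨qg, hqg⟩ := MulAction.exists_smul_eq (G ⧸ oddCore G) R
      (P.mapSurjective (QuotientGroup.mk'_surjective (oddCore G)))
    obtain ⟨g, rfl⟩ := QuotientGroup.mk'_surjective (oddCore G) qg
    have hpick : ∀ v ∈ K, π v * π v = 1 → π v ≠ 1 → π v ∈ (R : Subgroup (G ⧸ oddCore G)) →
        π g * π v * (π g)⁻¹ = π w := by
      intro v hv hv2 hv1 hvR
      have hm : π g * π v * (π g)⁻¹ ∈ (P.mapSurjective (QuotientGroup.mk'_surjective (oddCore G)) :
          Subgroup (G ⧸ oddCore G)) := hqg ▸ ⟨π v, hvR, rfl⟩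
      obtain ⟨p, hp, hpe⟩ := hm
      change π p = _ at hpe
      have hfp : f p = 1 := by
        have h1 : p⁻¹ * (g * v * g⁻¹) ∈ oddCore G := (QuotientGroup.eq_one_iff _).mp (by
          show π _ = 1
          rw [map_mul, map_inv, hpe, map_mul, map_mul, map_inv]; group)
        have h2 := hOK _ h1
        have h3 : f (g * v * g⁻¹) = 1 := (inferInstance : f.ker.Normal).conj_mem _ hv g
        rwa [map_mul, map_inv, h3, mul_one, inv_eq_one] at h2
      have hp2 : p * p = 1 := hπP _ (mul_mem hp hp) (by rw [map_mul, hpe, conj_mul, hv2]; group)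
      rw [← hpe, hsole p hp hp2 (fun e => hv1 ?_) hfp]
      rw [e, map_one] at hpe
      exact conj_eq_one_iff.mp hpe.symm
    have e1 := hpick w hwK hπw2 hπw1 (hR (Subgroup.mem_sup_right (Subgroup.mem_zpowers _)))
    have e2 := hpick w' hw'K hw'2 hw'1 (hR (Subgroup.mem_sup_left (Subgroup.mem_zpowers _)))
    have e3 : π w' = π w := mul_left_cancel (mul_right_cancel (e2.trans e1.symm))
    rw [hw', map_mul, map_mul, map_inv] at e3
    exact mul_inv_eq_iff_eq_mul.mp e3
  -- the centraliser of the image of `z` is a four-group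
  have hwA : w ∉ A := fun hA => (s.inter w hwP hA).elim hw1 hzw.symm
  have hexp : ∀ h ∈ H, π h * π h = 1 := fun h hh => by
    by_cases hA : h ∈ A
    · have h1 := congrArg π (d.inv w s.wH hwA h hA)
      rw [map_mul, map_mul, map_inv, map_inv, ← hwc (π h), mul_inv_cancel_right] at h1
      nth_rw 1 [h1]
      exact inv_mul_cancel _
    · rw [← map_mul, d.sq h hh hA, map_one]
  have hker : Odd (Nat.card π.ker) := by
    rw [hπdef, QuotientGroup.ker_mk']; exact CfsgLib.odd_card_oddCore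
  set Cz := Subgroup.centralizer ({π z} : Set (G ⧸ oddCore G)) with hCzdef
  have hCz : Nat.card Cz ≤ 4 := by
    have hle : Cz ≤ H.map π := fun q hq => by
      obtain ⟨g, rfl⟩ := QuotientGroup.mk'_surjective (oddCore G) q
      obtain ⟨o, ho, hgo⟩ := exists_lift_commute π hker hz2 (Subgroup.mem_centralizer_singleton_iff.mp hq)
      refine ⟨g * o, ?_, by rw [map_mul, MonoidHom.mem_ker.mp ho, mul_one]⟩
      show g * o ∈ H
      rw [← d.cent_invol hzA hz2 hz1, Subgroup.mem_centralizer_singleton_iff]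
      exact hgo
    have hp : IsPGroup 2 (H.map π) := by
      rintro ⟨_, h, hh, rfl⟩
      exact ⟨1, Subtype.ext (by rw [pow_one, SubmonoidClass.coe_pow, sq]; exact hexp h hh)⟩
    obtain ⟨n, hn⟩ := hp.exists_card_eq
    have h4 := s.four
    have h1 : Nat.card (H.map π) ∣ 4 * (Nat.card H / 4) := by
      rw [Nat.mul_div_cancel' (by omega)]
      exact H.card_map_dvd π
    rw [hn] at h1
    have h2 : 2 ^ n ∣ 4 := Nat.Coprime.dvd_of_dvd_mul_right
      (Nat.Coprime.pow_left n (Nat.coprime_two_left.mpr (Nat.odd_iff.mpr (by omega)))) h1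
    exact (Nat.le_of_dvd Nat.card_pos (Subgroup.card_dvd_of_le hle)).trans (hn ▸ Nat.le_of_dvd (by norm_num) h2)
  -- the quotient by the image of `w`
  set Zw := Subgroup.zpowers (π w) with hZw
  have hZwc : Zw ≤ Subgroup.center (G ⧸ oddCore G) := by
    rw [hZw, Subgroup.zpowers_le]
    exact Subgroup.mem_center_iff.mpr hwc
  haveI : Zw.Normal := ⟨fun n hn g => by
    rw [Subgroup.mem_center_iff.mp (hZwc hn) g, mul_inv_cancel_right]; exact hn⟩
  have hZw2 : Nat.card Zw = 2 := by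
    rw [hZw, Nat.card_zpowers, orderOf_eq_prime (by rw [sq]; exact hπw2) hπw1]
  have hZwmem : ∀ q ∈ Zw, q = 1 ∨ q = π w := by
    rintro q ⟨i, rfl⟩
    rcases Int.even_or_odd i with ⟨l, rfl⟩ | ⟨l, rfl⟩
    · left
      show π w ^ (l + l) = 1
      rw [← two_mul, zpow_mul, show π w ^ (2 : ℤ) = 1 by rw [zpow_two, hπw2], one_zpow]
    · right
      show π w ^ (2 * l + 1) = π w
      rw [zpow_add, zpow_mul, show π w ^ (2 : ℤ) = 1 by rw [zpow_two, hπw2], one_zpow, one_mul, zpow_one]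
  set σ := QuotientGroup.mk' Zw with hσ
  set y := σ (π z) with hy
  have hy2 : y * y = 1 := by rw [hy, ← map_mul, ← map_mul, hz2, map_one, map_one]
  have hzmem : ∀ p ∈ (P : Subgroup G), σ (π p) = 1 → p = 1 ∨ p = w := fun p hp e => by
    rcases hZwmem _ ((QuotientGroup.eq_one_iff _).mp e) with e' | e'
    · exact Or.inl (hπP p hp e')
    · refine Or.inr (mul_inv_eq_one.mp ?_)
      exact hπP _ (mul_mem hp (inv_mem hwP)) (by rw [map_mul, map_inv, e', mul_inv_cancel])
  have hy1 : y ≠ 1 := fun e => (hzmem z s.zP e).elim hz1 hzw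
  have hCy : Nat.card (Subgroup.centralizer ({y} : Set ((G ⧸ oddCore G) ⧸ Zw))) ≤ 4 := by
    set C' := (Subgroup.centralizer ({y} : Set ((G ⧸ oddCore G) ⧸ Zw))).comap σ with hC'
    have hcase : ∀ q ∈ C', q * π z * q⁻¹ = π z ∨ q * π z * q⁻¹ = π z * π w := by
      intro q hq
      have h1 : (π z)⁻¹ * (q * π z * q⁻¹) ∈ Zw := (QuotientGroup.eq_one_iff _).mp (by
        show σ _ = 1
        rw [map_mul, map_inv, map_mul, map_mul, map_inv, ← hy,
          Subgroup.mem_centralizer_singleton_iff.mp hq]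
        group)
      rcases hZwmem _ h1 with e | e
      · exact Or.inl (inv_mul_eq_one.mp e).symm
      · exact Or.inr (inv_mul_eq_iff_eq_mul.mp e)
    let F : C' ⧸ Cz.subgroupOf C' → Fin 2 := fun c =>
      if (c.out : G ⧸ oddCore G) * π z * (c.out : G ⧸ oddCore G)⁻¹ = π z then 0 else 1
    have hF : Function.Injective F := by
      intro a b hab
      have key : (a.out : G ⧸ oddCore G) * π z * (a.out : G ⧸ oddCore G)⁻¹ =
          (b.out : G ⧸ oddCore G) * π z * (b.out : G ⧸ oddCore G)⁻¹ := by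
        by_cases ha : (a.out : G ⧸ oddCore G) * π z * (a.out : G ⧸ oddCore G)⁻¹ = π z <;>
          by_cases hb : (b.out : G ⧸ oddCore G) * π z * (b.out : G ⧸ oddCore G)⁻¹ = π z
        · rw [ha, hb]
        · exact absurd hab (by simp only [F, if_pos ha, if_neg hb]; decide)
        · exact absurd hab (by simp only [F, if_neg ha, if_pos hb]; decide)
        · rw [(hcase _ a.out.2).resolve_left ha, (hcase _ b.out.2).resolve_left hb]
      rw [← QuotientGroup.out_eq' a, ← QuotientGroup.out_eq' b, QuotientGroup.eq, Subgroup.mem_subgroupOf,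
        Subgroup.coe_mul, Subgroup.coe_inv]
      show (a.out : G ⧸ oddCore G)⁻¹ * (b.out : G ⧸ oddCore G) ∈ Cz
      refine Subgroup.mem_centralizer_singleton_iff.mpr ?_
      calc (a.out : G ⧸ oddCore G)⁻¹ * (b.out : G ⧸ oddCore G) * π z
          = (a.out : G ⧸ oddCore G)⁻¹ * ((b.out : G ⧸ oddCore G) * π z * (b.out : G ⧸ oddCore G)⁻¹) * b.out := by
            group
        _ = π z * ((a.out : G ⧸ oddCore G)⁻¹ * b.out) := by rw [← key]; group
    have h1 : Nat.card C' ≤ 8 := by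
      rw [Subgroup.card_eq_card_quotient_mul_card_subgroup (Cz.subgroupOf C')]
      refine le_trans (Nat.mul_le_mul (Nat.card_le_card_of_injective F hF) (le_trans ?_ hCz)) (by rw [Nat.card_fin])
      exact Nat.card_le_card_of_injective (fun c => (⟨(c : C'), c.2⟩ : Cz)) fun a b e =>
        Subtype.ext (Subtype.ext (congrArg (fun c : Cz => (c : G ⧸ oddCore G)) e))
    have h2 : Nat.card C' = Nat.card (Subgroup.centralizer ({y} : Set ((G ⧸ oddCore G) ⧸ Zw))) * 2 := by
      have hle : σ.ker ≤ C' := MonoidHom.ker_le_comap _ _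
      have h3 := Subgroup.card_eq_card_quotient_mul_card_subgroup (σ.ker.subgroupOf C')
      rw [Nat.card_congr (Subgroup.subgroupOfEquivOfLe hle).toEquiv] at h3
      have h4 : Nat.card (C' ⧸ σ.ker.subgroupOf C') = Nat.card (C'.map σ) := Subgroup.relIndex_ker _ _
      rw [h4, Subgroup.map_comap_eq_self_of_surjective (QuotientGroup.mk'_surjective Zw),
        hσ, QuotientGroup.ker_mk', hZw2] at h3
      exact h3
    omega
  -- dihedral Sylow 2-subgroups
  have hdY : GWDihedral ((G ⧸ oddCore G) ⧸ Zw) := by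
    let ρ : (P : Subgroup G) →* (G ⧸ oddCore G) ⧸ Zw := (σ.comp π).comp (P : Subgroup G).subtype
    have hρk : ρ.ker = Subgroup.zpowers (s.a ^ s.N) := by
      refine le_antisymm (fun p hp => ?_) (Subgroup.zpowers_le.mpr ?_)
      · rcases hzmem p p.2 hp with e | e
        · rw [show p = 1 from Subtype.ext e]; exact one_mem _
        · rw [show p = s.a ^ s.N from Subtype.ext e]; exact Subgroup.mem_zpowers _
      · show σ (π w) = 1
        exact (QuotientGroup.eq_one_iff _).mpr (Subgroup.mem_zpowers _)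
    obtain ⟨k, hk, hNk⟩ := s.pow2
    have hoa : orderOf (ρ s.a) = s.N := by
      rw [hNk, show k = (k - 1) + 1 by omega]
      refine orderOf_eq_prime_pow (fun e => ?_) ?_
      · rw [← map_pow, ← MonoidHom.mem_ker, hρk] at e
        rcases hZ : hzmem (s.a ^ 2 ^ (k - 1) : (P : Subgroup G)) (s.a ^ 2 ^ (k - 1)).2 (by
          show σ (π _) = 1
          exact MonoidHom.mem_ker.mp (hρk.symm ▸ e : s.a ^ 2 ^ (k - 1) ∈ ρ.ker)) with h | h
        · have h1 : s.a ^ 2 ^ (k - 1) = 1 := Subtype.ext h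
          have h2 := Nat.le_of_dvd (by positivity) (orderOf_dvd_of_pow_eq_one h1)
          rw [s.order, hNk] at h2
          have h3 : 2 ^ (k - 1) ≤ 2 ^ k := Nat.pow_le_pow_right two_pos (by omega)
          have := Nat.two_pow_pos k
          omega
        · have h1 : s.a ^ 2 ^ (k - 1) = s.a ^ s.N := Subtype.ext h
          rw [pow_eq_pow_iff_modEq, s.order, hNk] at h1
          have h2 : 2 ^ k = 2 * 2 ^ (k - 1) := by rw [← pow_succ']; congr 1; omega
          have h3 := Nat.two_pow_pos (k - 1)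
          rw [Nat.ModEq, Nat.mod_eq_of_lt (by omega), Nat.mod_eq_of_lt (by omega)] at h1
          omega
      · rw [← map_pow, ← MonoidHom.mem_ker, hρk, show k - 1 + 1 = k by omega, ← hNk]
        exact Subgroup.mem_zpowers _
    have hcard : Nat.card ρ.range = 2 * s.N := by
      have h1 := Nat.card_congr (QuotientGroup.quotientKerEquivRange ρ).toEquiv
      have h2 := Subgroup.card_eq_card_quotient_mul_card_subgroup ρ.ker
      have h3 : Nat.card ρ.ker = 2 := by
        rw [hρk, Nat.card_zpowers, orderOf_eq_prime (by rw [sq]; exact s.w_sq) s.w_ne]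
      have h4 : Nat.card (P : Subgroup G) = 4 * s.N := by
        have h5 := (Subgroup.zpowers s.a).card_mul_index
        have h6 : (Subgroup.zpowers s.a).index = 2 := by
          refine Subgroup.index_eq_two_iff.mpr ⟨s.t, fun b => ?_⟩
          rcases s.gen b with ⟨i, rfl⟩ | ⟨i, rfl⟩
          · exact Or.inr ⟨zpow_mem (Subgroup.mem_zpowers _) i, fun e =>
              s.t_out ((Subgroup.mul_mem_cancel_left _ (zpow_mem (Subgroup.mem_zpowers _) i)).mp e)⟩
          · refine Or.inl ⟨?_, fun e => s.t_out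
              ((Subgroup.mul_mem_cancel_left _ (zpow_mem (Subgroup.mem_zpowers _) i)).mp e)⟩
            rw [mul_assoc, s.t_sq, mul_one]
            exact zpow_mem (Subgroup.mem_zpowers _) i
        rw [h6, Nat.card_zpowers, s.order] at h5
        omega
      rw [h1, h3, h4] at h2
      omega
    have hinv : ρ s.t * ρ s.a * (ρ s.t)⁻¹ = (ρ s.a)⁻¹ := by
      have h1 : (ρ s.a) ^ (s.N : ℤ) = 1 := by rw [zpow_natCast, ← hoa, pow_orderOf_eq_one]
      rw [← map_inv ρ s.t, ← map_mul, ← map_mul, s.conj, map_zpow, zpow_sub, h1, one_mul, zpow_one]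
    obtain ⟨e⟩ := CfsgLib.DihedralShape.equiv_dihedral (H := ρ.range) (c := ⟨ρ s.a, s.a, rfl⟩)
      (t := ⟨ρ s.t, s.t, rfl⟩) ((Subgroup.orderOf_mk _ _).trans hoa) hcard
      (Subtype.ext (show ρ s.t * ρ s.t = 1 by rw [← map_mul, s.t_sq, map_one])) (fun hm => by
        obtain ⟨i, hi⟩ := Subgroup.mem_zpowers_iff.mp hm
        have h1 : (ρ s.a) ^ i = ρ s.t := by simpa using congrArg Subtype.val hi
        have h2 : (s.a ^ i)⁻¹ * s.t ∈ ρ.ker := by
          rw [MonoidHom.mem_ker, map_mul, map_inv, map_zpow, h1, inv_mul_cancel]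
        rw [hρk] at h2
        refine s.t_out ((Subgroup.mul_mem_cancel_left _ (inv_mem (zpow_mem (Subgroup.mem_zpowers _) i))).mp ?_)
        exact Subgroup.zpowers_le.mpr (Subgroup.pow_mem _ (Subgroup.mem_zpowers _) _) h2) (Subtype.ext hinv)
    refine ⟨(P.mapSurjective (QuotientGroup.mk'_surjective (oddCore G))).mapSurjective
      (QuotientGroup.mk'_surjective Zw), s.N, ?_, ⟨(MulEquiv.subgroupCongr ?_).trans e⟩⟩
    · obtain ⟨M, hM, hN⟩ := s.N_four
      omega
    · show ((P : Subgroup G).map π).map σ = ρ.range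
      rw [Subgroup.map_map, MonoidHom.range_comp, Subgroup.range_subtype]
  have hOY : oddCore ((G ⧸ oddCore G) ⧸ Zw) = ⊥ :=
    CfsgLib.GWConseq.core_quotient_central (CfsgLib.pPrimeCore_quotient_eq_bot 2) Zw hZw2 hZwc
  have hnsY : ¬ Group.IsSolvable ((G ⧸ oddCore G) ⧸ Zw) := fun h => not_solvable_quotient hns
    (solvable_ext Zw (Group.isSolvable_of_comm fun a b =>
      IsMulCommutative.is_comm.comm a b) h)
  obtain ⟨L, hLn, hLp, hLm, hC, hfr⟩ := almost_simple hGW hdY hOY hnsY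
  haveI := hLn
  haveI := hLp
  have hyL : y ∉ L := by
    let fQ := QuotientGroup.lift (oddCore G) f fun o ho => hOK o ho
    let fY := QuotientGroup.lift Zw fQ (by
      rintro q hq
      rcases hZwmem q hq with rfl | rfl
      · exact one_mem _
      · exact hfw)
    intro hyL
    have h1 : commutator L ≤ (fY.comp L.subtype).ker := Abelianization.commutator_subset_ker _
    rw [Group.IsPerfect.commutator_eq_top] at h1
    have h2 : fY y = 1 := h1 (Subgroup.mem_top ⟨y, hyL⟩)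
    exact absurd (h2.symm.trans (show fY y = -1 from hfz)) (by decide)
  rcases hfr with ⟨⟨fr⟩⟩ | ⟨⟨fr⟩⟩
  swap
  · have hinj : Function.Injective fr.π := (MonoidHom.ker_eq_bot_iff _).mp (fr.ker_eq.trans hC)
    obtain ⟨l, hl, hle⟩ : fr.π y ∈ L.map fr.π := fr.map_L.symm ▸ Subgroup.mem_top _
    exact hyL (hinj hle ▸ hl)
  have hy' : orderOf y = 2 := orderOf_eq_prime (by rw [sq, hy2]) hy1
  obtain ⟨q, fd, e, hsh⟩ := pglShape_exists hdY L hLm hC hy' hyL
  have h1 := hsh.outer y hyL hy'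
  obtain ⟨j, hj⟩ := hsh.f_odd
  have h5 := hsh.five
  rcases hsh.sign with rfl | rfl <;>
    · rw [hj] at h1
      push_cast at h1
      nlinarith

end CfsgLib.DGroup
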