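import Cfsg.Agent.Lib.GW.DGroup.ZBig
import Cfsg.Agent.Lib.GW.DGroup.Dih
import Cfsg.Agent.Lib.GW.DGroup.NonDih

/-!
Groups with a self-centralising D-group: the assembly, given the Gorenstein–Walter theorem.
-/

set_option autoImplicit false
set_option linter.unusedSectionVars false

namespace CfsgLib.DGroup

open Cfsg CfsgLib.GW

universe u

variable {G : Type u} [Group G] [Finite G]

/-- A non-solvable group with a D-group as the centraliser of its central involutions. -/
theorem concl (hGW : CfsgLib.GWConseq.GWThm.{u}) (H A : Subgroup G) (hAH : A < H)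
    (hD : ∀ x ∈ H, x ∉ A → x ^ 2 = 1) (h4 : 4 ∣ Nat.card ↥H)
    (hC : ∀ j ∈ H, orderOf j = 2 → (∀ h ∈ H, h * j = j * h) → Subgroup.centralizer ({j} : Set G) = H)
    (hns : ¬ Group.IsSolvable G) : Concl G := by
  have h : DHyp H A := ⟨hAH, fun x hx hxA => by rw [← sq]; exact hD x hx hxA, h4, hC⟩
  rcases h.cases with hE | d
  · exact concl_of_exp h hE hns
  by_cases hb : d.Big
  · exact concl_of_big d hb hns
  obtain ⟨z, hzA, hz2, hz1⟩ := d.exists_invol
  have hzu : ∀ a ∈ A, a * a = 1 → a = 1 ∨ a = z := fun a ha ha2 => by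
    by_contra hne
    push Not at hne
    exact hb ⟨z, ⟨hzA, hz2⟩, a, ⟨ha, ha2⟩, hz1, hne.1, hne.2.symm⟩
  by_cases hd : GWDihedral G
  · exact concl_of_dihedral hGW d hd hns
  obtain ⟨P, ⟨s⟩⟩ := exists_semi d hd hzA hz2 hz1 hzu
  exact (s.false hGW d hzA hz2 hz1 hns).elim

end CfsgLib.DGroup
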