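import Cfsg.Agent.Lib.GW.DGroup.Local
import Cfsg.Agent.Lib.MaximalClass
import Cfsg.Agent.Lib.DihedralShape
import Cfsg.Agent.Lib.AbelianTwoComplement.Main
import Cfsg.Agent.S0112

/-!
One central involution, Sylow 2-subgroups not dihedral: the shape of a Sylow 2-subgroup.

* `Semi`: a semidihedral shape with its four-subgroup in the centraliser.
* `exists_semi`: the shape occurs.
-/

set_option autoImplicit false
set_option linter.unusedSectionVars false

namespace CfsgLib.DGroup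

open Cfsg CfsgLib.GW

universe u

variable {G : Type u} [Group G]

/-- A semidihedral shape of `P`, with generators `a`, `t` and `|a| = 2N`. -/
structure Semi (H A : Subgroup G) (z : G) (P : Sylow 2 G) where
  N : ℕ
  a : (P : Subgroup G)
  t : (P : Subgroup G)
  pow2 : ∃ k : ℕ, 2 ≤ k ∧ N = 2 ^ k
  order : orderOf a = 2 * N
  t_sq : t * t = 1
  t_out : t ∉ Subgroup.zpowers a
  conj : t * a * t⁻¹ = a ^ ((N : ℤ) - 1)
  gen : ∀ p : (P : Subgroup G), (∃ i : ℤ, p = a ^ i) ∨ ∃ i : ℤ, p = a ^ i * t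
  zP : z ∈ (P : Subgroup G)
  inter : ∀ p ∈ (P : Subgroup G), p ∈ A → p = 1 ∨ p = z
  four : Nat.card H % 8 = 4
  wH : ((a ^ N : (P : Subgroup G)) : G) ∈ H

variable [Finite G] {H A : Subgroup G}

/-- A group with one central involution in `A` and no dihedral Sylow 2-subgroup has a semidihedral one. -/
theorem exists_semi (d : DDih H A) (hnd : ¬ GWDihedral G) {z : G} (hzA : z ∈ A) (hz2 : z * z = 1) (hz1 : z ≠ 1)
    (hzu : ∀ a ∈ A, a * a = 1 → a = 1 ∨ a = z) : ∃ P : Sylow 2 G, Nonempty (Semi H A z P) := by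
  classical
  haveI : Fact (Nat.Prime 2) := ⟨Nat.prime_two⟩
  obtain ⟨P, hZP, ⟨x, hxP, hxH, hxA⟩, hodd⟩ := d.exists_local
  refine ⟨P, ?_⟩
  have hzP := hZP z hzA hz2
  set B := A ⊓ (P : Subgroup G) with hB
  have hzB : z ∈ B := ⟨hzA, hzP⟩
  have hBcyc : IsCyclic B := by
    refine CfsgLib.AbTwoCompl.isCyclic_of_unique_involution (P.2.to_le inf_le_right)
      (fun a ha b hb => d.comm ha.1 hb.1) (z := z) fun w hw hw2 => ?_
    refine (hzu w hw.1 (Involutions.mul_self_eq_one_of_orderOf hw2)).resolve_left fun e => ?_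
    rw [e, orderOf_one] at hw2
    norm_num at hw2
  obtain ⟨⟨c, hc⟩, hgen⟩ := IsCyclic.exists_generator (α := B)
  have hco : orderOf c = Nat.card B := by
    rw [← Subgroup.orderOf_mk c hc]
    exact orderOf_eq_card_of_forall_mem_zpowers hgen
  have hB2 : 2 ≤ Nat.card B := by
    have h1 : orderOf (⟨z, hzB⟩ : B) = 2 := by
      rw [Subgroup.orderOf_mk]
      exact orderOf_eq_prime (by rw [sq, hz2]) hz1
    exact Nat.le_of_dvd Nat.card_pos (h1 ▸ orderOf_dvd_natCard _)
  -- index two of `B` in `S`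
  set S := (P : Subgroup G) ⊓ H with hS
  have hBS : B ≤ S := fun b hb => ⟨hb.2, d.lt.le hb.1⟩
  have hSidx : (B.subgroupOf S).index = 2 := by
    refine Subgroup.index_eq_two_iff.mpr ⟨⟨x, hxP, hxH⟩, fun b => ?_⟩
    simp only [hB, Subgroup.mem_subgroupOf, Subgroup.coe_mul, Subgroup.mem_inf]
    by_cases hb : (b : G) ∈ A
    · exact Or.inr ⟨⟨hb, b.2.1⟩, fun e => hxA ((mul_mem_cancel_left hb).mp e.1)⟩
    · exact Or.inl ⟨⟨d.idx b b.2.2 hb x hxH hxA, mul_mem b.2.1 hxP⟩, fun e => hb e.1⟩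
  have hScard : Nat.card S = 2 * Nat.card B := by
    rw [← (B.subgroupOf S).card_mul_index, hSidx, Nat.card_congr (Subgroup.subgroupOfEquivOfLe hBS).toEquiv, mul_comm]
  -- `P` is not in `H`
  have hPH : ¬ (P : Subgroup G) ≤ H := by
    intro hle
    refine hnd ⟨P, Nat.card B, hB2, ?_⟩
    have hcx : x * c * x⁻¹ = c⁻¹ := d.inv x hxH hxA c hc.1
    refine CfsgLib.DihedralShape.equiv_dihedral (H := (P : Subgroup G)) (c := ⟨c, hc.2⟩) (t := ⟨x, hxP⟩) ?_ ?_
      (Subtype.ext (d.sq x hxH hxA)) ?_ (Subtype.ext hcx)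
    · rw [Subgroup.orderOf_mk, hco]
    · rw [← hScard, hS, inf_of_le_left hle]
    · intro hmem
      obtain ⟨i, hi⟩ := Subgroup.mem_zpowers_iff.mp hmem
      refine hxA ?_
      have h1 : c ^ i = x := by simpa using congrArg Subtype.val hi
      rw [← h1]
      exact A.zpow_mem hc.1 i
  -- `A ∩ P` has order two
  haveI : Group.IsNilpotent (P : Subgroup G) := P.2.isNilpotent
  have hlt : S.subgroupOf (P : Subgroup G) < ⊤ := by
    rw [lt_top_iff_ne_top, Ne, Subgroup.subgroupOf_eq_top]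
    exact fun h => hPH (h.trans inf_le_right)
  obtain ⟨g, hgN, hgS⟩ := SetLike.exists_of_lt (Group.normalizerCondition_of_isNilpotent _ hlt)
  have hB : Nat.card B = 2 := by
    obtain ⟨k, hk⟩ := (P.2.to_le (inf_le_right : B ≤ (P : Subgroup G))).exists_card_eq
    rcases k with _ | _ | k
    · rw [hk] at hB2; norm_num at hB2
    · rw [hk]; norm_num
    exfalso
    set s := c ^ 2 ^ k with hs
    have hss : s * s = z := by
      have h1 : s * s = c ^ 2 ^ (k + 1) := by rw [hs, ← pow_add, pow_succ, mul_two]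
      rw [h1]
      refine (hzu _ (pow_mem hc.1 _) ?_).resolve_left fun e => ?_
      · rw [← pow_add, ← two_mul, ← pow_succ', ← hk, ← hco, pow_orderOf_eq_one]
      · have h2 := Nat.le_of_dvd (by positivity) (orderOf_dvd_of_pow_eq_one e)
        rw [hco, hk, pow_succ 2 (k + 1)] at h2
        have h3 := Nat.two_pow_pos (k + 1)
        omega
    have hsS : (⟨s, pow_mem hc.2 _⟩ : (P : Subgroup G)) ∈ S.subgroupOf (P : Subgroup G) :=
      hBS (pow_mem hc _)
    have hs' : (g : G) * s * (g : G)⁻¹ ∈ S := (Subgroup.mem_normalizer_iff.mp hgN _).mp hsS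
    have hsA : (g : G) * s * (g : G)⁻¹ ∈ A := by_contra fun hA => hz1 (by
      have h2 := d.sq _ hs'.2 hA
      rw [conj_mul, hss] at h2
      exact conj_eq_one_iff.mp h2)
    have hgz : (g : G) * z * (g : G)⁻¹ = z := by
      refine (hzu _ ?_ (by rw [conj_mul, hz2]; group)).resolve_left fun e => hz1 (conj_eq_one_iff.mp e)
      rw [← hss, ← conj_mul]
      exact mul_mem hsA hsA
    have hgC : (g : G) ∈ Subgroup.centralizer ({z} : Set G) :=
      Subgroup.mem_centralizer_singleton_iff.mpr (mul_inv_eq_iff_eq_mul.mp hgz)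
    rw [d.cent_invol hzA hz2 hz1] at hgC
    exact hgS (Subgroup.mem_subgroupOf.mpr ⟨g.2, hgC⟩)
  have hinter : ∀ p ∈ (P : Subgroup G), p ∈ A → p = 1 ∨ p = z := fun p hp hpA => hzu p hpA (by
    have h1 : (⟨p, hpA, hp⟩ : B) ^ Nat.card B = 1 := pow_card_eq_one'
    rw [hB, sq] at h1
    exact congrArg Subtype.val h1)
  have hsq : ∀ p ∈ S, p * p = 1 := fun p hp => by
    by_cases hpA : p ∈ A
    · rcases hinter p hp.1 hpA with rfl | rfl
      · exact one_mul 1
      · exact hz2
    · exact d.sq p hp.2 hpA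
  have hcard4 : Nat.card S = 4 := by rw [hScard, hB]
  set T := S.subgroupOf (P : Subgroup G) with hT
  have hTcard : Nat.card T = 2 ^ 2 := by
    rw [hT, Nat.card_congr (Subgroup.subgroupOfEquivOfLe (inf_le_left : S ≤ _)).toEquiv, hcard4]; norm_num
  have hTsq : ∀ p ∈ T, p * p = 1 := fun p hp => Subtype.ext (hsq p hp)
  have hTC : Subgroup.centralizer (T : Set (P : Subgroup G)) = T := by
    refine le_antisymm (fun p hp => ?_) fun p hp => ?_
    · have hzT : (⟨z, hzP⟩ : (P : Subgroup G)) ∈ T := ⟨hzP, d.lt.le hzA⟩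
      have hpC : (p : G) ∈ Subgroup.centralizer ({z} : Set G) :=
        Subgroup.mem_centralizer_singleton_iff.mpr
          (congrArg Subtype.val (Subgroup.mem_centralizer_iff.mp hp ⟨z, hzP⟩ hzT)).symm
      rw [d.cent_invol hzA hz2 hz1] at hpC
      exact ⟨p.2, hpC⟩
    · refine Subgroup.mem_centralizer_iff.mpr fun q hq => ?_
      have h1 := inv_eq_self (hTsq (q * p) (mul_mem hq hp))
      rw [mul_inv_rev, inv_eq_self (hTsq q hq), inv_eq_self (hTsq p hp)] at h1
      exact h1.symm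
  obtain ⟨n, hn⟩ := P.2.exists_card_eq
  have hn3 : 3 ≤ n := by
    by_contra h
    refine hlt.ne (Subgroup.eq_top_of_le_card _ ?_)
    rw [hn, hTcard]
    exact Nat.pow_le_pow_right two_pos (by omega)
  have hcl := Cfsg.Agent.S0112.result n hn T hTcard hTC
  obtain ⟨a, b, r, ha, -, hab, hconj, hr, hfix, -⟩ := CfsgLib.MaximalClass.shape hn3 hn
    ((CfsgLib.MaximalClass.index_commutator hn3 hn hcl).trans (by norm_num))
    (CfsgLib.MaximalClass.pow_mem_commutator hn3 hn hcl)
  obtain ⟨t, htT, hta⟩ : ∃ t ∈ T, t ∉ Subgroup.zpowers a := by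
    by_contra hne
    push Not at hne
    haveI : IsCyclic T := isCyclic_of_injective (Subgroup.inclusion hne) (Subgroup.inclusion_injective hne)
    obtain ⟨u, hu⟩ := IsCyclic.exists_generator (α := T)
    have h1 := orderOf_eq_card_of_forall_mem_zpowers hu
    have h2 : orderOf u ∣ 2 := orderOf_dvd_of_pow_eq_one (Subtype.ext (by
      rw [SubmonoidClass.coe_pow, sq]; exact hTsq u u.2))
    rw [h1, hTcard] at h2
    norm_num at h2
  have ht2 : t * t = 1 := hTsq t htT
  obtain ⟨i₀, hi₀⟩ := Subgroup.mem_zpowers_iff.mp ((hab t).resolve_left hta)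
  have htb : t = b * a ^ i₀ := by rw [hi₀, mul_inv_cancel_left]
  have hta' : t * a * t⁻¹ = a ^ r := by rw [htb, ← hconj]; group
  have hgenP : ∀ p : (P : Subgroup G), (∃ i : ℤ, p = a ^ i) ∨ ∃ i : ℤ, p = a ^ i * t := fun p => by
    rcases hab p with h | h
    · obtain ⟨i, rfl⟩ := Subgroup.mem_zpowers_iff.mp h
      exact Or.inl ⟨i, rfl⟩
    · obtain ⟨i, hi⟩ := Subgroup.mem_zpowers_iff.mp h
      refine Or.inr ⟨r * (i - i₀), ?_⟩
      rw [zpow_mul, ← hta', conj_zpow, inv_mul_cancel_right, htb, mul_assoc, ← zpow_add,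
        add_sub_cancel, hi, mul_inv_cancel_left]
  set N := 2 ^ (n - 2) with hN
  have hN2 : 2 ^ (n - 1) = 2 * N := by rw [hN, ← pow_succ']; congr 1; omega
  obtain ⟨k, hk⟩ : (N : ℤ) ∣ r + 1 := by simpa [hN] using hr
  rw [hN2] at ha
  have hcong : ∀ i j : ℤ, (2 * (N : ℤ)) ∣ j - i → a ^ i = a ^ j := fun i j h => by
    rw [zpow_eq_zpow_iff_modEq, Int.modEq_iff_dvd, ha]
    exact_mod_cast h
  rcases Int.even_or_odd k with ⟨l, hl⟩ | ⟨l, hl⟩
  · exfalso
    refine hnd ⟨P, 2 * N, by have := Nat.two_pow_pos (n - 2); omega, ?_⟩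
    refine CfsgLib.DihedralShape.equiv_dihedral (H := (P : Subgroup G)) ha ?_ ht2 hta ?_
    · rw [hn, ← hN2, ← pow_succ']; congr 1; omega
    · rw [hta', ← zpow_neg_one a]
      exact hcong r (-1) ⟨-l, by rw [hl] at hk; linear_combination -1 * hk⟩
  · have hr' : a ^ r = a ^ ((N : ℤ) - 1) := hcong _ _ ⟨-l, by rw [hl] at hk; linear_combination -1 * hk⟩
    have hn4 : 4 ≤ n := by
      by_contra h
      have h3 : n = 3 := by omega
      subst h3
      have h4 := hfix 1 ⟨l, by
        simp only [hN] at hk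
        norm_num at hk ⊢
        rw [hl] at hk
        linarith⟩
      norm_num at h4
    refine ⟨⟨N, a, t, ⟨n - 2, by omega, rfl⟩, ha, ht2, hta, hta'.trans hr', hgenP, hzP, hinter, ?_, ?_⟩⟩
    · have h1 := (S.subgroupOf H).card_mul_index
      rw [Nat.card_congr (Subgroup.subgroupOfEquivOfLe (inf_le_right : S ≤ H)).toEquiv, hcard4] at h1
      obtain ⟨j, hj⟩ := hodd
      rw [hS, hj] at h1
      omega
    · have hwc : ∀ p : (P : Subgroup G), p * a ^ N = a ^ N * p := by
        have h1 : t * a ^ N * t⁻¹ = a ^ N := by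
          rw [← conj_pow, hta', hr', ← zpow_natCast, ← zpow_natCast, ← zpow_mul]
          refine hcong _ _ ⟨1 - (2 ^ (n - 3) : ℤ), ?_⟩
          have : (N : ℤ) = 2 * 2 ^ (n - 3) := by
            rw [hN]; push_cast; rw [← pow_succ']; congr 1; omega
          linear_combination (-(N : ℤ)) * this
        have h2 : t * a ^ N = a ^ N * t := mul_inv_eq_iff_eq_mul.mp h1
        intro p
        rcases hgenP p with ⟨i, rfl⟩ | ⟨i, rfl⟩
        · exact ((Commute.refl a).zpow_left i).pow_right N |>.eq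
        · rw [mul_assoc, h2, ← mul_assoc, ((Commute.refl a).zpow_left i).pow_right N |>.eq, mul_assoc]
      have h2 : a ^ N ∈ T := hTC ▸ Subgroup.mem_centralizer_iff.mpr fun q _ => hwc q
      exact (Subgroup.mem_subgroupOf.mp h2).2

end CfsgLib.DGroup
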