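import Cfsg.Agent.Lib.GW.DGroup.Local

/-!
A generalised dihedral centraliser with at least three central involutions.
-/

set_option autoImplicit false
set_option linter.unusedSectionVars false

namespace CfsgLib.DGroup

open Cfsg CfsgLib.GW CfsgLib.PSL2
open scoped MatrixGroups commutatorElement

universe u

variable {G : Type u} [Group G] [Finite G] {H A : Subgroup G}

/-- At least three central involutions. -/
def DDih.Big (d : DDih H A) : Prop := ∃ u ∈ d.Zs, ∃ v ∈ d.Zs, u ≠ 1 ∧ v ≠ 1 ∧ u ≠ v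

/-- A conjugation taking one central involution to another preserves the others. -/
theorem DDih.preserve (d : DDih H A) {g k : G} (hk : k ∈ d.Zs) (hk1 : k ≠ 1) (hk' : g * k * g⁻¹ ∈ d.Zs) :
    ∀ z ∈ d.Zs, g * z * g⁻¹ ∈ d.Zs := by
  have hk'1 : g * k * g⁻¹ ≠ 1 := fun e => hk1 (conj_eq_one_iff.mp e)
  have hH : ∀ y : G, g * y * g⁻¹ ∈ H ↔ y ∈ H := fun y => by
    rw [← d.cent_invol hk'.1 hk'.2 hk'1, Subgroup.mem_centralizer_singleton_iff, conj_mul, conj_mul,
      mul_left_inj, mul_right_inj, ← Subgroup.mem_centralizer_singleton_iff, d.cent_invol hk.1 hk.2 hk1,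
      d.cent_invol hk'.1 hk'.2 hk'1]
  intro z hz
  refine ⟨d.mem_of_central ((hH z).mpr (d.lt.le hz.1)) fun h hh => ?_, by rw [conj_mul, hz.2]; group⟩
  have e : g * (g⁻¹ * h * g) * g⁻¹ = h := by group
  have h1 := d.commutes_invol hz.1 hz.2 (g⁻¹ * h * g) ((hH _).mp (e.symm ▸ hh))
  rw [← e, conj_mul, conj_mul, h1]

/-- A conjugation taking the central involutions into `H` preserves them. -/
theorem DDih.preserve_of_le (d : DDih H A) (hb : d.Big) {g : G} (h : ∀ z ∈ d.Zs, g * z * g⁻¹ ∈ H) :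
    ∀ z ∈ d.Zs, g * z * g⁻¹ ∈ d.Zs := by
  obtain ⟨u, hu, v, hv, hu1, hv1, huv⟩ := hb
  have hsq : ∀ z ∈ d.Zs, g * z * g⁻¹ * (g * z * g⁻¹) = 1 := fun z hz => by rw [conj_mul, hz.2]; group
  by_cases huA : g * u * g⁻¹ ∈ A
  · exact d.preserve hu hu1 ⟨huA, hsq u hu⟩
  by_cases hvA : g * v * g⁻¹ ∈ A
  · exact d.preserve hv hv1 ⟨hvA, hsq v hv⟩
  have huv' : u * v ∈ d.Zs := mul_mem hu hv
  refine d.preserve huv' (fun e => huv ?_) ⟨?_, hsq _ huv'⟩
  · rw [eq_inv_of_mul_eq_one_left e, inv_eq_self hv.2]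
  · rw [← conj_mul]
    exact d.idx _ (h u hu) huA _ (h v hv) hvA

/-- An element outside `A` has no conjugate among the central involutions. -/
theorem DDih.out_not_conj (d : DDih H A) (hb : d.Big) {x : G} (hx : x ∈ H) (hxA : x ∉ A) (g : G) :
    g * x * g⁻¹ ∉ d.Zs := by
  intro hw
  have hw1 : g * x * g⁻¹ ≠ 1 := fun e => hxA (conj_eq_one_iff.mp e ▸ one_mem A)
  have h := d.preserve_of_le hb (g := g) fun z hz => by
    rw [← d.cent_invol hw.1 hw.2 hw1, Subgroup.mem_centralizer_singleton_iff, conj_mul, conj_mul,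
      d.commutes_invol hz.1 hz.2 x hx]
  obtain ⟨u, hu, -, -, hu1, -, -⟩ := hb
  have h' := d.preserve (g := g⁻¹) (h u hu) (fun e => hu1 (conj_eq_one_iff.mp e))
    (by rw [show g⁻¹ * (g * u * g⁻¹) * g⁻¹⁻¹ = u by group]; exact hu) _ hw
  rw [show g⁻¹ * (g * x * g⁻¹) * g⁻¹⁻¹ = x by group] at h'
  exact hxA h'.1

/-- A Sylow 2-subgroup of the group lies in `H`. -/
theorem DDih.exists_sylow_le (d : DDih H A) (hb : d.Big) :
    ∃ P : Sylow 2 G, (P : Subgroup G) ≤ H ∧ (∀ a ∈ A, a * a = 1 → a ∈ (P : Subgroup G)) ∧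
      ∃ x ∈ (P : Subgroup G), x ∈ H ∧ x ∉ A := by
  haveI : Fact (Nat.Prime 2) := ⟨Nat.prime_two⟩
  obtain ⟨P, hZP, hx, -⟩ := d.exists_local
  refine ⟨P, ?_, hZP, hx⟩
  by_contra hne
  haveI : Group.IsNilpotent (P : Subgroup G) := P.2.isNilpotent
  have hlt : H.subgroupOf (P : Subgroup G) < ⊤ := by
    rw [lt_top_iff_ne_top, Ne, Subgroup.subgroupOf_eq_top]
    exact hne
  obtain ⟨g, hgN, hgH⟩ := SetLike.exists_of_lt (Group.normalizerCondition_of_isNilpotent _ hlt)
  set R : Subgroup (P : Subgroup G) := Subgroup.normalizer (H.subgroupOf (P : Subgroup G) : Set (P : Subgroup G))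
  haveI : Group.IsNilpotent R := (P.2.to_subgroup R).isNilpotent
  set W : Subgroup R := d.Zs.comap ((P : Subgroup G).subtype.comp R.subtype) with hW
  have hkey : ∀ r : R, ∀ z ∈ d.Zs, ((r : (P : Subgroup G)) : G) * z * ((r : (P : Subgroup G)) : G)⁻¹ ∈ d.Zs :=
    fun r => d.preserve_of_le hb fun z hz =>
      (Subgroup.mem_normalizer_iff.mp r.2 ⟨z, hZP z hz.1 hz.2⟩).mp (d.lt.le hz.1)
  haveI : W.Normal := ⟨fun n hn r => hkey r _ hn⟩
  have hWne : W ≠ ⊥ := fun e => by
    obtain ⟨u, hu, -, -, hu1, -, -⟩ := hb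
    have huR : (⟨u, hZP u hu.1 hu.2⟩ : (P : Subgroup G)) ∈ R :=
      Subgroup.le_normalizer (Subgroup.mem_subgroupOf.mpr (d.lt.le hu.1))
    have hmem : (⟨⟨u, hZP u hu.1 hu.2⟩, huR⟩ : R) ∈ W := hu
    rw [e, Subgroup.mem_bot] at hmem
    exact hu1 (congrArg (fun r : R => ((r : (P : Subgroup G)) : G)) hmem)
  obtain ⟨c, hc, hc1⟩ := Subgroup.bot_or_exists_ne_one _ |>.resolve_left (CfsgLib.inf_center_ne_bot_of_nilpotent hWne)
  have hcZ : ((c : (P : Subgroup G)) : G) ∈ d.Zs := hc.1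
  have hc1' : ((c : (P : Subgroup G)) : G) ≠ 1 := fun e => hc1 (Subtype.ext (Subtype.ext e))
  refine hgH (Subgroup.mem_subgroupOf.mpr ?_)
  rw [← d.cent_invol hcZ.1 hcZ.2 hc1', Subgroup.mem_centralizer_singleton_iff]
  exact congrArg (fun r : R => ((r : (P : Subgroup G)) : G)) (Subgroup.mem_center_iff.mp hc.2 ⟨g, hgN⟩)

/-- The sign separating `A` from the rest of `H`. -/
theorem DDih.exists_split (d : DDih H A) (hb : d.Big) :
    ∃ (P : Sylow 2 G) (f : G →* ℤˣ), (P : Subgroup G) ≤ H ∧ (∀ a ∈ A, a * a = 1 → a ∈ (P : Subgroup G)) ∧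
      (∃ x ∈ (P : Subgroup G), x ∈ H ∧ x ∉ A) ∧ ∀ h ∈ H, f h = 1 ↔ h ∈ A := by
  haveI : Fact (Nat.Prime 2) := ⟨Nat.prime_two⟩
  obtain ⟨P, hPH, hZP, x, hxP, hxH, hxA⟩ := d.exists_sylow_le hb
  set M := A ⊓ (P : Subgroup G) with hM
  have hrel : M.relIndex (P : Subgroup G) = 2 := by
    refine Subgroup.index_eq_two_iff.mpr ⟨⟨x, hxP⟩, fun b => ?_⟩
    simp only [hM, Subgroup.mem_subgroupOf, Subgroup.coe_mul, Subgroup.mem_inf]
    by_cases hb' : (b : G) ∈ A
    · exact Or.inr ⟨⟨hb', b.2⟩, fun e => hxA ((mul_mem_cancel_left hb').mp e.1)⟩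
    · exact Or.inl ⟨⟨d.idx b (hPH b.2) hb' x hxH hxA, mul_mem b.2 hxP⟩, fun e => hb' e.1⟩
  have hidx : M.index = 2 * (P : Subgroup G).index := by
    rw [← Subgroup.relIndex_mul_index (inf_le_right : M ≤ (P : Subgroup G)), hrel]
  obtain ⟨f, hf⟩ := exists_sign M hidx (by
    rw [← Nat.not_even_iff_odd, even_iff_two_dvd]; exact P.not_dvd_index)
  have hout : ∀ y ∈ H, y ∉ A → f y = -1 := fun y hy hyA => hf y (d.sq y hy hyA) fun g hg => by
    refine d.out_not_conj hb hy hyA g⁻¹ ⟨?_, ?_⟩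
    · rw [inv_inv]; exact hg.1
    · rw [inv_inv, show g⁻¹ * y * g * (g⁻¹ * y * g) = g⁻¹ * (y * y) * g by group, d.sq y hy hyA]; group
  refine ⟨P, f, hPH, hZP, ⟨x, hxP, hxH, hxA⟩, fun h hh => ⟨fun e => ?_, fun hA => ?_⟩⟩
  · by_contra hA
    rw [hout h hh hA] at e
    exact absurd e (by decide)
  · have h1 : x * h ∉ A := fun e => hxA ((mul_mem_cancel_right hA).mp e)
    have h2 := map_mul f x h
    rw [hout x hxH hxA, hout (x * h) (mul_mem hxH hh) h1] at h2
    simpa using h2.symm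

/-- An automorphism induced by an element which fixes a Sylow 2-subgroup of `PSL₂(2^n)` is inner. -/
theorem exists_adjust {F : Type} [Field F] [Fintype F] [CharP F 2]
    (ι : Matrix.ProjectiveSpecialLinearGroup (Fin 2) F →* G) (hι : Function.Injective ι) [ι.range.Normal]
    {y : G} (hy : ∀ t : F, y * ι (uu t) = ι (uu t) * y) :
    ∃ m, ∀ s, ((ι m)⁻¹ * y) * ι s = ι s * ((ι m)⁻¹ * y) := by
  let η := MonoidHom.ofInjective hι
  let φ : MulAut (Matrix.ProjectiveSpecialLinearGroup (Fin 2) F) :=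
    MulAut.congr η.symm (MulAut.conjNormal (H := ι.range) y)
  have hη : ∀ s, (η s : G) = ι s := fun s => MonoidHom.ofInjective_apply hι
  have hφ : ∀ s, ι (φ s) = y * ι s * y⁻¹ := fun s => by
    rw [← hη, ← hη]
    show ((η (η.symm (MulAut.conjNormal (H := ι.range) y (η.symm.symm s))) : ι.range) : G) = _
    rw [MulEquiv.apply_symm_apply]
    rfl
  obtain ⟨m, hm⟩ := inner_of_fix_uu (φ := φ) fun t => hι (by rw [hφ, hy t, mul_inv_cancel_right])
  refine ⟨m, fun s => ?_⟩
  have h1 := hφ s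
  rw [hm, MulAut.conj_apply, map_mul, map_mul, map_inv] at h1
  calc (ι m)⁻¹ * y * ι s = (ι m)⁻¹ * (y * ι s * y⁻¹) * y := by group
    _ = ι s * ((ι m)⁻¹ * y) := by rw [← h1]; group

/-- The conclusion, for at least three central involutions. -/
theorem concl_of_big (d : DDih H A) (hb : d.Big) (hns : ¬ Group.IsSolvable G) : Concl G := by
  haveI : Fact (Nat.Prime 2) := ⟨Nat.prime_two⟩
  obtain ⟨P, f, hPH, hZP, ⟨x, hxP, hxH, hxA⟩, hf⟩ := d.exists_split hb
  have hfx : f x = -1 := (Int.units_eq_one_or _).resolve_left fun e => hxA ((hf x hxH).mp e)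
  set K := f.ker with hK
  have hKidx : K.index = 2 := index_ker_sign f hfx
  have hPK : ∀ p ∈ (P : Subgroup G), p ∈ K → p ∈ A := fun p hp hpK => (hf p (hPH hp)).mp hpK
  obtain ⟨u, hu, v, hv, hu1, hv1, huv⟩ := id hb
  have hZK : ∀ z ∈ d.Zs, z ∈ K := fun z hz => (hf z (d.lt.le hz.1)).mpr hz.1
  have hZK' : d.Zs ≤ K := hZK
  have h4 : 4 ∣ Nat.card K := by
    have h3 : 3 ≤ Nat.card d.Zs := by
      let g : Fin 3 → d.Zs := ![1, ⟨u, hu⟩, ⟨v, hv⟩]
      have hg : Function.Injective g := by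
        intro i j e
        have e' := congrArg Subtype.val e
        fin_cases i <;> fin_cases j <;> first
          | rfl
          | exact absurd e' hu1
          | exact absurd e'.symm hu1
          | exact absurd e' hv1
          | exact absurd e'.symm hv1
          | exact absurd e' huv
          | exact absurd e'.symm huv
      simpa using Nat.card_le_card_of_injective g hg
    obtain ⟨k, hk⟩ := (show IsPGroup 2 d.Zs from fun z => ⟨1, Subtype.ext (by
      rw [pow_one, SubmonoidClass.coe_pow, sq]; exact z.2.2)⟩).exists_card_eq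
    refine dvd_trans ?_ (Subgroup.card_dvd_of_le hZK')
    rcases k with _ | _ | k
    · rw [hk] at h3; norm_num at h3
    · rw [hk] at h3; norm_num at h3
    · rw [hk]; exact pow_dvd_pow 2 (show 2 ≤ k + 2 by omega)
  have hab : ∀ t : K, orderOf t = 2 → IsMulCommutative ↥(Subgroup.centralizer ({t} : Set K)) := by
    intro t ht
    have ht' : orderOf (t : G) = 2 := by rw [Subgroup.orderOf_coe, ht]
    obtain ⟨g, hg⟩ := conj_into P (t := (t : G)) (k := 1) (by rw [pow_one, ← ht']; exact pow_orderOf_eq_one _)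
    have hwA : g * t * g⁻¹ ∈ A := hPK _ hg ((inferInstance : f.ker.Normal).conj_mem _ t.2 g)
    have hw2 : g * t * g⁻¹ * (g * t * g⁻¹) = 1 := by
      rw [conj_mul, Involutions.mul_self_eq_one_of_orderOf ht']; group
    have hw1 : g * t * g⁻¹ ≠ 1 := fun e => by
      rw [conj_eq_one_iff.mp e, orderOf_one] at ht'; norm_num at ht'
    have hmem : ∀ a ∈ Subgroup.centralizer ({t} : Set K), g * a * g⁻¹ ∈ A := fun a ha => by
      refine (hf _ ?_).mp ((inferInstance : f.ker.Normal).conj_mem _ a.2 g)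
      rw [← d.cent_invol hwA hw2 hw1, Subgroup.mem_centralizer_singleton_iff, conj_mul, conj_mul]
      rw [show (a : G) * t = (t : G) * a from
        congrArg Subtype.val (Subgroup.mem_centralizer_singleton_iff.mp ha)]
    refine ⟨⟨fun a b => Subtype.ext (Subtype.ext ?_)⟩⟩
    have h1 := d.comm (hmem a a.2) (hmem b b.2)
    rw [conj_mul, conj_mul] at h1
    exact mul_left_cancel (mul_right_cancel h1)
  have hquot : Group.IsSolvable (G ⧸ K) := by
    haveI : IsCyclic (G ⧸ K) := isCyclic_of_prime_card (p := 2) (by rw [← Subgroup.index_eq_card, hKidx])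
    exact Group.isSolvable_of_comm fun a b => IsMulCommutative.is_comm.comm a b
  have heven : Even (Nat.card K) := even_iff_two_dvd.mpr ((show (2 : ℕ) ∣ 4 by norm_num).trans h4)
  rcases Cfsg.Agent.S2202.result heven hab with hcyc | hnor | ⟨F, hF, hFt, B, hB, hBf, hch, hBo, ⟨e⟩⟩
  · exfalso
    have hZ : IsPGroup 2 (d.Zs.subgroupOf K) := fun z => ⟨1, Subtype.ext (Subtype.ext (by
      rw [pow_one, sq]; exact (Subgroup.mem_subgroupOf.mp z.2).2))⟩
    obtain ⟨R, hR⟩ := hZ.exists_le_sylow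
    haveI := hcyc R
    haveI := Fintype.ofFinite (R : Subgroup K)
    classical
    have hc := IsCyclic.card_pow_eq_one_le (α := (R : Subgroup K)) (n := 2) two_pos
    let U : (R : Subgroup K) := ⟨⟨u, hZK u hu⟩, hR hu⟩
    let V : (R : Subgroup K) := ⟨⟨v, hZK v hv⟩, hR hv⟩
    have hsub : ({1, U, V} : Finset (R : Subgroup K)) ⊆ Finset.univ.filter fun a => a ^ 2 = 1 := by
      intro a ha
      simp only [Finset.mem_insert, Finset.mem_singleton] at ha
      refine Finset.mem_filter.mpr ⟨Finset.mem_univ _, ?_⟩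
      rcases ha with rfl | rfl | rfl
      · exact one_pow 2
      · exact Subtype.ext (Subtype.ext (by rw [sq]; exact hu.2))
      · exact Subtype.ext (Subtype.ext (by rw [sq]; exact hv.2))
    have hle := (Finset.card_le_card hsub).trans hc
    rw [Finset.card_insert_of_notMem (by
      simp only [Finset.mem_insert, Finset.mem_singleton, not_or]
      exact ⟨fun h => hu1 (congrArg (fun a : (R : Subgroup K) => ((a : K) : G)) h).symm,
        fun h => hv1 (congrArg (fun a : (R : Subgroup K) => ((a : K) : G)) h).symm⟩),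
      Finset.card_pair fun h => huv (congrArg (fun a : (R : Subgroup K) => ((a : K) : G)) h)] at hle
    omega
  · exfalso
    obtain ⟨R⟩ : Nonempty (Sylow 2 K) := inferInstance
    exact hns (solvable_ext K (solvable_of_normal_sylow R (hnor R)) hquot)
  haveI := hch
  have hF3 : 3 < Fintype.card F := by
    refine three_lt_of_four ?_
    have h := Nat.card_congr e.toEquiv ▸ h4
    rw [Nat.card_prod] at h
    exact (Nat.Coprime.dvd_of_dvd_mul_right
      (by rw [show (4 : ℕ) = 2 ^ 2 by norm_num]; exact Nat.Coprime.pow_left 2 (Nat.coprime_two_left.mpr hBo)) h)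
  -- the copy of `PSL₂` in `G`
  let SL := Matrix.SpecialLinearGroup (Fin 2) F
  let ι : Matrix.ProjectiveSpecialLinearGroup (Fin 2) F →* G :=
    ((K.subtype.comp e.symm.toMonoidHom).comp (MonoidHom.inl SL B)).comp CfsgLib.PrimeGraphExt.pslEquiv.toMonoidHom
  have hιK : ∀ s, ι s ∈ K := fun s => (e.symm (CfsgLib.PrimeGraphExt.pslEquiv s, 1)).2
  have hι : Function.Injective ι := fun a b hab => by
    have h := congrArg Prod.fst (e.symm.injective (Subtype.ext hab))
    exact CfsgLib.PrimeGraphExt.pslEquiv.injective h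
  have hιmem : ∀ k : K, (e k).2 = 1 → (k : G) ∈ ι.range := fun k hk =>
    ⟨CfsgLib.PrimeGraphExt.pslEquiv.symm (e k).1, congrArg Subtype.val (e.injective (by
      rw [e.apply_symm_apply]; exact Prod.ext (MulEquiv.apply_symm_apply _ _) hk.symm) :
        e.symm (CfsgLib.PrimeGraphExt.pslEquiv (CfsgLib.PrimeGraphExt.pslEquiv.symm (e k).1), 1) = k)⟩
  have hperf : commutator (Matrix.ProjectiveSpecialLinearGroup (Fin 2) F) = ⊤ := by
    haveI : IsSimpleGroup (Matrix.ProjectiveSpecialLinearGroup (Fin 2) F) :=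
      Matrix.ProjectiveSpecialLinearGroup.rank_two_simple (by rw [Nat.card_eq_fintype_card]; omega)
    rcases (inferInstance : (commutator (Matrix.ProjectiveSpecialLinearGroup (Fin 2) F)).Normal).eq_bot_or_eq_top
      with h | h
    swap; · exact h
    exfalso
    have hcm : ∀ a b : Matrix.ProjectiveSpecialLinearGroup (Fin 2) F, a * b = b * a := fun a b => by
      have : ⁅a, b⁆ ∈ commutator (Matrix.ProjectiveSpecialLinearGroup (Fin 2) F) :=
        Subgroup.commutator_mem_commutator (Subgroup.mem_top _) (Subgroup.mem_top _)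
      rwa [h, Subgroup.mem_bot, commutatorElement_eq_one_iff_mul_comm] at this
    refine hns (solvable_ext K ?_ hquot)
    have hKc : ∀ a b : K, a * b = b * a := fun a b => e.injective (by
      rw [map_mul, map_mul]
      exact Prod.ext (CfsgLib.PrimeGraphExt.pslEquiv.symm.injective (by simp only [Prod.fst_mul, map_mul, hcm]))
        (mul_comm _ _))
    exact Group.isSolvable_of_comm hKc
  have hL : ι.range = ⁅K, K⁆ := by
    refine le_antisymm ?_ ?_
    · rw [MonoidHom.range_eq_map, ← hperf, commutator_def, Subgroup.map_commutator]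
      exact Subgroup.commutator_mono (by rintro _ ⟨s, -, rfl⟩; exact hιK s) (by rintro _ ⟨s, -, rfl⟩; exact hιK s)
    · rw [Subgroup.commutator_le]
      intro a ha b hb'
      have := hιmem ⁅(⟨a, ha⟩ : K), ⟨b, hb'⟩⁆ (by
        have h1 : (e ⁅(⟨a, ha⟩ : K), ⟨b, hb'⟩⁆).2 = ⁅(e ⟨a, ha⟩).2, (e ⟨b, hb'⟩).2⁆ :=
          map_commutatorElement ((MonoidHom.snd SL B).comp e.toMonoidHom) _ _
        rw [h1, commutatorElement_eq_one_iff_mul_comm]
        exact mul_comm _ _)
      simpa [commutatorElement_def] using this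
  haveI : ι.range.Normal := hL ▸ inferInstance
  obtain ⟨g, hg⟩ : ∃ g : G, ∀ t : F, g * ι (uu t) * g⁻¹ ∈ (P : Subgroup G) := by
    obtain ⟨R, hR⟩ := ((uSylow (F := F) 2).2.map ι).exists_le_sylow
    obtain ⟨g, hg⟩ := MulAction.exists_smul_eq G R P
    refine ⟨g, fun t => ?_⟩
    rw [← hg]
    exact ⟨ι (uu t), hR ⟨uu t, ⟨_, rfl⟩, rfl⟩, rfl⟩
  have hfix : ∀ t : F, (g⁻¹ * x * g) * ι (uu t) = ι (uu t) * (g⁻¹ * x * g) := fun t => by
    have hA := hPK _ (hg t) ((inferInstance : f.ker.Normal).conj_mem _ (hιK _) g)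
    have h2 : g * ι (uu t) * g⁻¹ * (g * ι (uu t) * g⁻¹) = 1 := by
      rw [conj_mul, ← map_mul, show (uu t * uu t : Matrix.ProjectiveSpecialLinearGroup (Fin 2) F) = 1 by
        rw [uu, ← map_mul, show Multiplicative.ofAdd t * Multiplicative.ofAdd t = 1 from
          Multiplicative.toAdd.injective (CharTwo.add_self_eq_zero t), map_one], map_one]
      group
    have h3 := d.commutes_invol hA h2 x hxH
    calc g⁻¹ * x * g * ι (uu t) = g⁻¹ * (x * (g * ι (uu t) * g⁻¹)) * g := by group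
      _ = g⁻¹ * ((g * ι (uu t) * g⁻¹) * x) * g := by rw [h3]
      _ = ι (uu t) * (g⁻¹ * x * g) := by group
  obtain ⟨m, hm⟩ := exists_adjust ι hι hfix
  set w := (ι m)⁻¹ * (g⁻¹ * x * g) with hw
  set N := Subgroup.centralizer (ι.range : Set G) with hN
  haveI : N.Normal := Subgroup.normal_centralizer
  have hwN : w ∈ N := Subgroup.mem_centralizer_iff.mpr (by rintro _ ⟨s, rfl⟩; exact (hm s).symm)
  have hfw : f w = -1 := by
    rw [hw, map_mul, map_inv, MonoidHom.mem_ker.mp (hιK m), inv_one, one_mul, map_mul, map_mul, hfx,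
      map_inv, mul_comm, ← mul_assoc, mul_inv_cancel, one_mul]
  have hBN : ∀ k : K, (e k).1 = 1 → (k : G) ∈ N := fun k hk => Subgroup.mem_centralizer_iff.mpr (by
    rintro _ ⟨s, rfl⟩
    refine congrArg Subtype.val (e.injective (a₁ := e.symm (CfsgLib.PrimeGraphExt.pslEquiv s, 1) * k)
      (a₂ := k * e.symm (CfsgLib.PrimeGraphExt.pslEquiv s, 1)) ?_)
    rw [map_mul, map_mul, e.apply_symm_apply]
    exact Prod.ext (by simp [hk]) (mul_comm _ _))
  have hdec : ∀ k : K, ∃ s, ∃ n ∈ N, (k : G) = ι s * n := fun k => by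
    refine ⟨CfsgLib.PrimeGraphExt.pslEquiv.symm (e k).1, _, hBN (e.symm (1, (e k).2)) (by simp), ?_⟩
    refine congrArg Subtype.val (e.injective (a₁ := k)
      (a₂ := e.symm (CfsgLib.PrimeGraphExt.pslEquiv (CfsgLib.PrimeGraphExt.pslEquiv.symm (e k).1), 1) *
        e.symm (1, (e k).2)) ?_)
    simp
  have hdecG : ∀ y : G, ∃ s, ∃ n ∈ N, y = ι s * n := fun y => by
    by_cases hy : y ∈ K
    · exact hdec ⟨y, hy⟩
    · have hyw : y * w ∈ K := MonoidHom.mem_ker.mpr (by
        rw [map_mul, hfw, (Int.units_eq_one_or (f y)).resolve_left hy]; decide)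
      obtain ⟨s, n, hn, he⟩ := hdec ⟨y * w, hyw⟩
      exact ⟨s, n * w⁻¹, mul_mem hn (inv_mem hwN), by rw [← mul_assoc, ← he]; simp⟩
  have hdis : ∀ s, ι s ∈ N → s = 1 := fun s hs => by
    have hs' : s ∈ Subgroup.center (Matrix.ProjectiveSpecialLinearGroup (Fin 2) F) :=
      Subgroup.mem_center_iff.mpr fun r => hι (by
        rw [map_mul, map_mul]; exact Subgroup.mem_centralizer_iff.mp hs _ ⟨r, rfl⟩)
    haveI : IsSimpleGroup (Matrix.ProjectiveSpecialLinearGroup (Fin 2) F) :=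
      Matrix.ProjectiveSpecialLinearGroup.rank_two_simple (by rw [Nat.card_eq_fintype_card]; omega)
    rcases (inferInstance : (Subgroup.center (Matrix.ProjectiveSpecialLinearGroup (Fin 2) F)).Normal).eq_bot_or_eq_top
      with h | h
    · rwa [h, Subgroup.mem_bot] at hs'
    · exfalso
      have h1 : commutator (Matrix.ProjectiveSpecialLinearGroup (Fin 2) F) ≤ ⊥ := by
        rw [commutator_def, Subgroup.commutator_le]
        intro a _ b _
        rw [Subgroup.mem_bot, commutatorElement_eq_one_iff_mul_comm]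
        exact Subgroup.mem_center_iff.mp (h ▸ Subgroup.mem_top b) a
      rw [hperf] at h1
      exact bot_ne_top (eq_bot_iff.mpr h1).symm
  refine ⟨N, inferInstance, Or.inr ?_, F, hF, hFt, hF3, Or.inl ⟨?_⟩⟩
  · set ψ := f.comp N.subtype with hψ
    have h2 : ψ.ker.index = 2 := index_ker_sign ψ (t := ⟨w, hwN⟩) hfw
    refine ⟨Nat.card ψ.ker, ?_, by rw [← ψ.ker.card_mul_index, h2, mul_comm]⟩
    let χ : ψ.ker →* B :=
      (MonoidHom.snd SL B).comp (e.toMonoidHom.comp
        ((N.subtype.comp ψ.ker.subtype).codRestrict K fun n => n.2))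
    have hχ : Function.Injective χ := (injective_iff_map_eq_one _).mpr fun n hn => by
      obtain ⟨s, hs⟩ := hιmem ⟨((n : N) : G), n.2⟩ hn
      have h1 := hdis s (hs ▸ (n : N).2)
      rw [h1, map_one] at hs
      exact Subtype.ext (Subtype.ext hs.symm)
    exact hBo.of_dvd_nat (Subgroup.card_dvd_of_injective χ hχ)
  · refine (MulEquiv.ofBijective ((QuotientGroup.mk' N).comp ι) ⟨?_, ?_⟩).symm
    · exact (injective_iff_map_eq_one _).mpr fun s hs => hdis s ((QuotientGroup.eq_one_iff _).mp hs)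
    · intro q
      obtain ⟨y, rfl⟩ := QuotientGroup.mk'_surjective N q
      obtain ⟨s, n, hn, rfl⟩ := hdecG y
      have h1 : QuotientGroup.mk' N n = 1 := (QuotientGroup.eq_one_iff n).mpr hn
      exact ⟨s, by rw [MonoidHom.comp_apply, map_mul, h1, mul_one]⟩

end CfsgLib.DGroup
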